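import Mathlib.GroupTheory.ClassEquation
import Mathlib.GroupTheory.CommutingProbability
import Mathlib.GroupTheory.GroupAction.ConjAct
import Mathlib.GroupTheory.Index
import Mathlib.Tactic

/-!
# Elementary facts on class numbers

* `RhoLE G R`: `|G| ≤ R · k(G)`; it passes to subgroups, products and, with a factor `s²`, to
  overgroups of index `s`.
* `exists_orbit_bound`: classes inside an abelian normal subgroup add to those of the quotient.
* `card_mul_le_fibre`: classes over a class of a central quotient.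
* `card_le_six_of_classes`, `card_le_of_classes_four`: three, resp. four, classes.
-/

set_option autoImplicit false
set_option linter.style.haveILetI false

namespace Cfsg.Agent.SolvClassBound

universe u v

/-- `|G| ≤ R · k(G)`. -/
def RhoLE (G : Type u) [Group G] (R : ℕ) : Prop := Nat.card G ≤ R * Nat.card (ConjClasses G)

variable {G : Type u} [Group G] [Finite G]

instance finite_conjClasses : Finite (ConjClasses G) :=
  Finite.of_surjective _ ConjClasses.mk_surjective

theorem pairs_eq (G : Type u) [Group G] :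
    Nat.card {q : G × G // Commute q.1 q.2} = Nat.card (ConjClasses G) * Nat.card G :=
  card_comm_eq_card_conjClasses_mul_card G

theorem conjClasses_pos : 0 < Nat.card (ConjClasses G) :=
  haveI : Nonempty (ConjClasses G) := ⟨ConjClasses.mk 1⟩
  Nat.card_pos

omit [Finite G] in
theorem conjClasses_eq_of_comm (h : ∀ a b : G, a * b = b * a) :
    Nat.card (ConjClasses G) = Nat.card G := by
  refine (Nat.card_eq_of_bijective ConjClasses.mk ⟨fun a b hab => ?_, ConjClasses.mk_surjective⟩).symm
  obtain ⟨c, hc⟩ := isConj_iff.mp (ConjClasses.mk_eq_mk_iff_isConj.mp hab)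
  rw [h c a, mul_inv_cancel_right] at hc
  exact hc

theorem conjClasses_le_card : Nat.card (ConjClasses G) ≤ Nat.card G :=
  Nat.card_le_card_of_surjective _ ConjClasses.mk_surjective

omit [Finite G] in
theorem conjClasses_congr {H : Type v} [Group H] [Finite G] (e : G ≃* H) :
    Nat.card (ConjClasses G) = Nat.card (ConjClasses H) := by
  haveI : Finite H := Finite.of_equiv G e.toEquiv
  have h : Nat.card {q : G × G // Commute q.1 q.2} = Nat.card {q : H × H // Commute q.1 q.2} :=
    Nat.card_congr ((e.toEquiv.prodCongr e.toEquiv).subtypeEquiv fun q => by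
      show Commute q.1 q.2 ↔ Commute (e q.1) (e q.2)
      exact ⟨fun hq => hq.map e, fun hq => by simpa using hq.map e.symm⟩)
  rw [pairs_eq, pairs_eq, ← Nat.card_congr e.toEquiv] at h
  exact Nat.eq_of_mul_eq_mul_right Nat.card_pos h

/-- A subgroup of index `s` has at most `s` times fewer classes. -/
theorem conjClasses_le_index_mul (H : Subgroup G) :
    Nat.card (ConjClasses G) ≤ H.index * Nat.card (ConjClasses H) := by
  classical
  haveI := Fintype.ofFinite G
  have key : ∀ g : G, Nat.card (Subgroup.centralizer ({g} : Set G)) ≤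
      H.index * Nat.card {h : H // Commute g h} := fun g => by
    set C := Subgroup.centralizer ({g} : Set G)
    have h1 : Nat.card (H.subgroupOf C) = Nat.card {h : H // Commute g h} :=
      Nat.card_congr
        { toFun := fun x => ⟨⟨((x : C) : G), x.2⟩, (Subgroup.mem_centralizer_singleton_iff.1 x.1.2).symm⟩
          invFun := fun y => ⟨⟨(y.1 : G), Subgroup.mem_centralizer_singleton_iff.2 y.2.symm⟩, y.1.2⟩
          left_inv := fun x => rfl
          right_inv := fun y => rfl }
    rw [← (H.subgroupOf C).index_mul_card, h1]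
    refine Nat.mul_le_mul_right _ ?_
    show H.relIndex C ≤ H.index
    rw [← Subgroup.relIndex_top_right]
    exact Subgroup.relIndex_le_of_le_right le_top Subgroup.index_ne_zero_of_finite
  have e1 : Nat.card {q : G × G // Commute q.1 q.2} ≤ H.index * Nat.card {q : G × H // Commute q.1 q.2} := by
    have a1 : Nat.card {q : G × G // Commute q.1 q.2} =
        ∑ g : G, Nat.card (Subgroup.centralizer ({g} : Set G)) := by
      rw [← Nat.card_sigma]
      exact Nat.card_congr
        { toFun := fun q => ⟨q.1.1, q.1.2, Subgroup.mem_centralizer_singleton_iff.2 q.2.symm⟩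
          invFun := fun s => ⟨(s.1, (s.2 : G)), (Subgroup.mem_centralizer_singleton_iff.1 s.2.2).symm⟩
          left_inv := fun q => rfl
          right_inv := fun s => rfl }
    have a2 : Nat.card {q : G × H // Commute q.1 q.2} = ∑ g : G, Nat.card {h : H // Commute g h} := by
      rw [← Nat.card_sigma]
      exact Nat.card_congr
        { toFun := fun q => ⟨q.1.1, q.1.2, q.2⟩
          invFun := fun s => ⟨(s.1, s.2.1), s.2.2⟩
          left_inv := fun q => rfl
          right_inv := fun s => rfl }
    rw [a1, a2, Finset.mul_sum]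
    exact Finset.sum_le_sum fun g _ => key g
  have e2 : Nat.card {q : G × H // Commute q.1 q.2} ≤ H.index * Nat.card {q : H × H // Commute q.1 q.2} := by
    have a2 : Nat.card {q : G × H // Commute q.1 q.2} =
        ∑ h : H, Nat.card (Subgroup.centralizer ({(h : G)} : Set G)) := by
      rw [← Nat.card_sigma]
      exact Nat.card_congr
        { toFun := fun q => ⟨q.1.2, q.1.1, Subgroup.mem_centralizer_singleton_iff.2 q.2⟩
          invFun := fun s => ⟨((s.2 : G), s.1), Subgroup.mem_centralizer_singleton_iff.1 s.2.2⟩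
          left_inv := fun q => rfl
          right_inv := fun s => rfl }
    have a3 : Nat.card {q : H × H // Commute q.1 q.2} = ∑ h : H, Nat.card {k : H // Commute (h : G) k} := by
      rw [← Nat.card_sigma]
      exact Nat.card_congr
        { toFun := fun q => ⟨q.1.1, q.1.2, q.2.map H.subtype⟩
          invFun := fun s => ⟨(s.1, s.2.1), Subtype.ext s.2.2⟩
          left_inv := fun q => rfl
          right_inv := fun s => rfl }
    rw [a2, a3, Finset.mul_sum]
    exact Finset.sum_le_sum fun h _ => key h
  have h := e1.trans (Nat.mul_le_mul_left _ e2)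
  rw [pairs_eq, pairs_eq, ← H.index_mul_card] at h
  refine Nat.le_of_mul_le_mul_right (h.trans_eq ?_)
    (Nat.mul_pos (Nat.pos_of_ne_zero H.index_ne_zero_of_finite) Nat.card_pos)
  ring

omit [Finite G] in
theorem RhoLE.mono {R R' : ℕ} (h : RhoLE G R) (hR : R ≤ R') : RhoLE G R' :=
  h.trans (Nat.mul_le_mul_right _ hR)

omit [Finite G] in
theorem RhoLE.congr {H : Type v} [Group H] [Finite G] {R : ℕ} (h : RhoLE G R) (e : G ≃* H) :
    RhoLE H R := by
  unfold RhoLE at h ⊢
  rwa [← conjClasses_congr e, ← Nat.card_congr e.toEquiv]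

theorem RhoLE.subgroup {R : ℕ} (h : RhoLE G R) (H : Subgroup G) : RhoLE H R := by
  unfold RhoLE at h ⊢
  refine Nat.le_of_mul_le_mul_left (?_ : H.index * Nat.card H ≤ H.index * _)
    (Nat.pos_of_ne_zero H.index_ne_zero_of_finite)
  rw [H.index_mul_card]
  exact h.trans ((Nat.mul_le_mul_left _ (conjClasses_le_index_mul H)).trans_eq (by ring))

omit [Finite G] in
theorem RhoLE.of_injective {H : Type v} [Group H] [Finite H] {R : ℕ} (h : RhoLE H R) (f : G →* H)
    (hf : Function.Injective f) : RhoLE G R :=
  (h.subgroup f.range).congr (MonoidHom.ofInjective hf).symm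

theorem RhoLE.of_subgroup {R : ℕ} (H : Subgroup G) (h : RhoLE H R) :
    RhoLE G (H.index ^ 2 * R) := by
  unfold RhoLE at h ⊢
  have h1 : Nat.card {q : H × H // Commute q.1 q.2} ≤ Nat.card {q : G × G // Commute q.1 q.2} :=
    Nat.card_le_card_of_injective (fun q => ⟨(q.1.1, q.1.2), q.2.map H.subtype⟩) fun a b hab => by
      have h1 := congrArg (fun r : {q : G × G // Commute q.1 q.2} => r.1.1) hab
      have h2 := congrArg (fun r : {q : G × G // Commute q.1 q.2} => r.1.2) hab
      exact Subtype.ext (Prod.ext (Subtype.ext h1) (Subtype.ext h2))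
  rw [pairs_eq, pairs_eq] at h1
  refine Nat.le_of_mul_le_mul_right (?_ : Nat.card G * Nat.card G ≤ _ * Nat.card G) Nat.card_pos
  calc Nat.card G * Nat.card G = H.index ^ 2 * (Nat.card H * Nat.card H) := by
        rw [← H.index_mul_card]; ring
    _ ≤ H.index ^ 2 * (R * Nat.card (ConjClasses H) * Nat.card H) :=
        Nat.mul_le_mul_left _ (Nat.mul_le_mul_right _ h)
    _ = H.index ^ 2 * R * (Nat.card (ConjClasses H) * Nat.card H) := by ring
    _ ≤ H.index ^ 2 * R * (Nat.card (ConjClasses G) * Nat.card G) := Nat.mul_le_mul_left _ h1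
    _ = _ := by ring

theorem rhoLE_pi {ι : Type v} [Fintype ι] {H : ι → Type u} [∀ i, Group (H i)] [∀ i, Finite (H i)]
    {R : ℕ} (h : ∀ i, RhoLE (H i) R) : RhoLE (∀ i, H i) (R ^ Fintype.card ι) := by
  classical
  unfold RhoLE at h ⊢
  have e : Nat.card {q : (∀ i, H i) × (∀ i, H i) // Commute q.1 q.2} =
      ∏ i, Nat.card {q : H i × H i // Commute q.1 q.2} := by
    rw [← Nat.card_pi]
    exact Nat.card_congr
      { toFun := fun q i => ⟨(q.1.1 i, q.1.2 i), congrFun q.2 i⟩
        invFun := fun f => ⟨(fun i => (f i).1.1, fun i => (f i).1.2), funext fun i => (f i).2⟩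
        left_inv := fun q => rfl
        right_inv := fun f => rfl }
  rw [pairs_eq, Finset.prod_congr rfl (fun i _ => pairs_eq (H i)), Finset.prod_mul_distrib,
    ← Nat.card_pi (β := H)] at e
  rw [Nat.eq_of_mul_eq_mul_right Nat.card_pos e, Nat.card_pi, ← Finset.card_univ, ← Finset.prod_const,
    ← Finset.prod_mul_distrib]
  exact Finset.prod_le_prod' fun i _ => h i

omit [Finite G] in
theorem rhoLE_one_of_comm (h : ∀ a b : G, a * b = b * a) : RhoLE G 1 := by
  unfold RhoLE
  rw [conjClasses_eq_of_comm h, one_mul]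

/-! ### Classes inside a normal subgroup -/

/-- The classes inside an abelian normal subgroup and those of the quotient. -/
theorem exists_orbit_bound (N : Subgroup G) [N.Normal] (hN : ∀ a ∈ N, ∀ b ∈ N, a * b = b * a) :
    ∃ r : ℕ, Nat.card N ≤ r * N.index + 1 ∧
      Nat.card (ConjClasses (G ⧸ N)) + r ≤ Nat.card (ConjClasses G) := by
  classical
  haveI := Fintype.ofFinite G
  haveI := Fintype.ofFinite (ConjClasses G)
  haveI := Fintype.ofFinite (ConjClasses (G ⧸ N))
  set q := ConjClasses.map (QuotientGroup.mk' N) with hq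
  have hqs : Function.Surjective q := ConjClasses.map_surjective (QuotientGroup.mk'_surjective N)
  set S := Finset.univ.filter fun c : ConjClasses G => q c = q (ConjClasses.mk 1) with hS
  set S' := S.erase (ConjClasses.mk 1) with hS'
  have hconj : ∀ {x y : G}, x ∈ (ConjClasses.mk y).carrier → ∃ g : G, g * y * g⁻¹ = x := fun hx =>
    isConj_iff.mp (ConjClasses.mk_eq_mk_iff_isConj.mp (ConjClasses.mem_carrier_iff_mk_eq.mp hx).symm)
  have hone : ∀ {x : G}, x ∈ (ConjClasses.mk (1 : G)).carrier → x = 1 := fun hx => by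
    obtain ⟨g, hg⟩ := hconj hx
    rw [← hg]; group
  have hqy : ∀ y : G, q (ConjClasses.mk y) = q (ConjClasses.mk 1) ↔ y ∈ N := fun y => by
    show ConjClasses.mk (QuotientGroup.mk' N y) = ConjClasses.mk (QuotientGroup.mk' N 1) ↔ _
    rw [ConjClasses.mk_eq_mk_iff_isConj, map_one, isConj_comm, isConj_one_right]
    exact QuotientGroup.eq_one_iff y
  have hmem : ∀ c : ConjClasses G, c ∈ S ↔ ∀ x ∈ c.carrier, x ∈ N := fun c => by
    obtain ⟨y, rfl⟩ := ConjClasses.mk_surjective c
    rw [hS, Finset.mem_filter, hqy]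
    refine ⟨fun h x hx => ?_, fun h => ⟨Finset.mem_univ _, h y ConjClasses.mem_carrier_mk⟩⟩
    obtain ⟨g, rfl⟩ := hconj hx
    exact Subgroup.Normal.conj_mem inferInstance y h.2 g
  refine ⟨S'.card, ?_, ?_⟩
  · -- counting `N`
    have h1 : Nat.card N ≤ ∑ c ∈ S, Nat.card c.carrier := by
      rw [← Finset.sum_coe_sort, ← Nat.card_sigma]
      refine Nat.card_le_card_of_injective
        (fun x : N => ⟨⟨ConjClasses.mk (x : G), (hmem _).2 fun y hy => ?_⟩,
          (x : G), ConjClasses.mem_carrier_mk⟩) fun a b hab => ?_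
      · obtain ⟨g, rfl⟩ := hconj hy
        exact Subgroup.Normal.conj_mem inferInstance _ x.2 g
      · exact Subtype.ext (congrArg (fun s : (c : S) × c.1.carrier => (s.2 : G)) hab)
    have h1S : ConjClasses.mk (1 : G) ∈ S := (hmem _).2 fun x hx => by
      rw [hone hx]; exact one_mem N
    rw [← Finset.add_sum_erase _ _ h1S] at h1
    have h2 : Nat.card (ConjClasses.mk (1 : G)).carrier = 1 := by
      rw [Nat.card_eq_one_iff_unique]
      exact ⟨⟨fun a b => Subtype.ext ((hone a.2).trans (hone b.2).symm)⟩,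
        ⟨⟨1, ConjClasses.mem_carrier_mk⟩⟩⟩
    have h3 : ∀ c ∈ S', Nat.card c.carrier ≤ N.index := fun c hc => by
      have hcS := (hmem c).1 (Finset.mem_of_mem_erase hc)
      obtain ⟨y, rfl⟩ := ConjClasses.mk_surjective c
      have hyN : y ∈ N := hcS y ConjClasses.mem_carrier_mk
      let f : G ⧸ N → (ConjClasses.mk y).carrier := Quotient.lift
        (fun g : G => ⟨g * y * g⁻¹, ConjClasses.mem_carrier_iff_mk_eq.mpr
          (ConjClasses.mk_eq_mk_iff_isConj.mpr (isConj_iff.mpr ⟨g, rfl⟩)).symm⟩)
        fun a b hab => Subtype.ext (by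
          have hn : a⁻¹ * b ∈ N := QuotientGroup.leftRel_apply.1 hab
          show a * y * a⁻¹ = b * y * b⁻¹
          calc a * y * a⁻¹ = a * (y * (a⁻¹ * b) * (a⁻¹ * b)⁻¹) * a⁻¹ := by group
            _ = a * ((a⁻¹ * b) * y * (a⁻¹ * b)⁻¹) * a⁻¹ := by rw [hN y hyN _ hn]
            _ = b * y * b⁻¹ := by group)
      refine Nat.card_le_card_of_surjective f fun z => ?_
      obtain ⟨g, hg⟩ := isConj_iff.mp (ConjClasses.mk_eq_mk_iff_isConj.mp
        (ConjClasses.mem_carrier_iff_mk_eq.mp z.2).symm)
      exact ⟨(g : G ⧸ N), Subtype.ext hg⟩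
    have h4 := Finset.sum_le_sum h3
    rw [Finset.sum_const, smul_eq_mul] at h4
    rw [h2] at h1
    simp only [hS'] at h4 ⊢
    omega
  · -- one class over every other class of the quotient
    let sec := Function.surjInv hqs
    let T := (Finset.univ : Finset (ConjClasses (G ⧸ N))).image sec
    have hT : T.card = Fintype.card (ConjClasses (G ⧸ N)) :=
      Finset.card_image_of_injective _ (Function.injective_surjInv hqs)
    have hTS : (T ∩ S).card ≤ 1 := Finset.card_le_one.2 fun a ha b hb => by
      simp only [T, hS, Finset.mem_inter, Finset.mem_image, Finset.mem_filter, Finset.mem_univ,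
        true_and] at ha hb
      obtain ⟨⟨a', rfl⟩, ha2⟩ := ha
      obtain ⟨⟨b', rfl⟩, hb2⟩ := hb
      rw [Function.surjInv_eq hqs] at ha2 hb2
      rw [ha2, hb2]
    have h1S : ConjClasses.mk (1 : G) ∈ S := by simp [hS]
    have h5 := Finset.card_le_univ (T ∪ S)
    have h6 := Finset.card_union_add_card_inter T S
    have h7 : S'.card + 1 = S.card := Finset.card_erase_add_one h1S
    rw [Nat.card_eq_fintype_card, Nat.card_eq_fintype_card]
    omega

omit [Finite G] in
/-- The elements of `Z` carrying `x` into its own class. -/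
theorem card_mul_le_fibre [Finite G] (Z : Subgroup G) [Z.Normal]
    (hc : ∀ z ∈ Z, ∀ g : G, g * z = z * g) (x : G) {m : ℕ}
    (hm : Nat.card {z : Z // IsConj x (x * z)} ≤ m) :
    Nat.card Z ≤ m * Nat.card {c : ConjClasses G //
      ConjClasses.map (QuotientGroup.mk' Z) c = ConjClasses.mk (QuotientGroup.mk' Z x)} := by
  classical
  haveI := Fintype.ofFinite G
  haveI := Fintype.ofFinite (ConjClasses G)
  let f : Z → {c : ConjClasses G //
      ConjClasses.map (QuotientGroup.mk' Z) c = ConjClasses.mk (QuotientGroup.mk' Z x)} :=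
    fun z => ⟨ConjClasses.mk (x * (z : G)), by
      show ConjClasses.mk (QuotientGroup.mk' Z (x * (z : G))) = _
      rw [map_mul, show QuotientGroup.mk' Z (z : G) = 1 from (QuotientGroup.eq_one_iff _).2 z.2,
        mul_one]⟩
  rw [Nat.card_eq_fintype_card, Nat.card_eq_fintype_card, ← Finset.card_univ, ← Finset.card_univ]
  refine Finset.card_le_mul_card_image_of_maps_to (f := f) (fun a _ => Finset.mem_univ _) m fun b hb => ?_
  rcases (Finset.univ.filter fun z => f z = b).eq_empty_or_nonempty with he | ⟨z₀, hz₀⟩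
  · rw [he]; simp
  · refine le_trans ?_ hm
    rw [Nat.card_eq_fintype_card, ← Finset.card_univ]
    refine Finset.card_le_card_of_injOn (fun z => if h : IsConj x (x * ((z₀⁻¹ * z : Z) : G)) then
        (⟨z₀⁻¹ * z, h⟩ : {z : Z // IsConj x (x * z)}) else ⟨1, by rw [Subgroup.coe_one, mul_one]⟩)
      (fun a _ => Finset.mem_univ _) ?_
    have key : ∀ z, f z = b → IsConj x (x * ((z₀⁻¹ * z : Z) : G)) := fun z hz => by
      have h1 : f z₀ = f z := by rw [(Finset.mem_filter.1 hz₀).2, hz]
      obtain ⟨g, hg⟩ := isConj_iff.mp (ConjClasses.mk_eq_mk_iff_isConj.mp (congrArg Subtype.val h1))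
      refine isConj_iff.mpr ⟨g, ?_⟩
      have hz0 : (z₀ : G) * g⁻¹ = g⁻¹ * z₀ := (hc _ z₀.2 g⁻¹).symm
      calc g * x * g⁻¹ = g * (x * z₀) * g⁻¹ * (z₀ : G)⁻¹ := by
            rw [show g * (x * z₀) * g⁻¹ = g * x * ((z₀ : G) * g⁻¹) by group, hz0]; group
        _ = x * z * (z₀ : G)⁻¹ := by rw [hg]
        _ = x * ((z₀⁻¹ * z : Z) : G) := by
            rw [Subgroup.coe_mul, Subgroup.coe_inv, mul_assoc, hc _ (Z.inv_mem z₀.2) (z : G)]
    intro a ha c hc' hac
    have ha' := key a (Finset.mem_filter.1 ha).2
    have hc'' := key c (Finset.mem_filter.1 hc').2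
    simp only [dif_pos ha', dif_pos hc''] at hac
    exact mul_left_cancel (congrArg Subtype.val hac)

/-! ### Very few classes -/

theorem three_sum {N x y : ℕ} (hx : x ∣ N) (hy : y ∣ N) (h : 1 + x + y = N) (hyx : y ≤ x) :
    N ≤ 6 := by
  obtain ⟨a, rfl⟩ := hx
  rcases Nat.lt_or_ge x 3 with hx3 | hx3
  · omega
  have ha : a = 2 := by
    have h1 : 2 ≤ a := by
      by_contra hlt
      interval_cases a <;> omega
    have h2 : a < 3 := by
      by_contra hge
      have := Nat.mul_le_mul_left x (Nat.not_lt.1 hge)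
      omega
    omega
  subst ha
  have h3 : y ∣ 2 * (y + 1) := by rwa [show 2 * (y + 1) = x * 2 by omega]
  rw [Nat.mul_add, Nat.dvd_add_right (dvd_mul_left y 2)] at h3
  have := Nat.le_of_dvd (by norm_num) h3
  omega

theorem four_sum {N x y z : ℕ} (hx : x ∣ N) (hy : y ∣ N) (hz : z ∣ N) (h : 1 + x + y + z = N)
    (hyx : y ≤ x) (hzy : z ≤ y) : N ≤ 42 := by
  obtain ⟨a, ha⟩ := hx
  obtain ⟨b, hb⟩ := hy
  rcases Nat.lt_or_ge y 8 with hy8 | hy8
  · rcases Nat.lt_or_ge x 16 with hx8 | hx8
    · omega
    · have h2 : a = 2 := by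
        by_contra hne
        rcases Nat.lt_or_ge a 2 with h0 | h0
        · interval_cases a <;> omega
        · have := Nat.mul_le_mul_left x (show 3 ≤ a by omega)
          omega
      subst h2
      omega
  have ha' : a = 2 ∨ a = 3 := by
    rcases Nat.lt_or_ge a 2 with h0 | h0
    · interval_cases a <;> omega
    · by_contra hne
      have := Nat.mul_le_mul_left x (show 4 ≤ a by omega)
      omega
  rcases ha' with rfl | rfl
  · have hb' : b = 3 ∨ b = 4 := by
      rcases Nat.lt_or_ge b 3 with h0 | h0
      · interval_cases b <;> omega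
      · by_contra hne
        have := Nat.mul_le_mul_left y (show 5 ≤ b by omega)
        omega
    rcases hb' with rfl | rfl
    · have hz' : z ∣ 6 := by
        have h1 : N = 6 * z + 6 := by omega
        rw [h1] at hz
        exact (Nat.dvd_add_right (dvd_mul_left z 6)).1 hz
      have := Nat.le_of_dvd (by norm_num) hz'
      omega
    · have hz' : z ∣ 4 := by
        have h1 : N = 4 * z + 4 := by omega
        rw [h1] at hz
        exact (Nat.dvd_add_right (dvd_mul_left z 4)).1 hz
      have := Nat.le_of_dvd (by norm_num) hz'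
      omega
  · have hyx' : y = x := by
      rcases eq_or_lt_of_le hyx with h' | h'
      · exact h'
      · omega
    subst hyx'
    have hz' : z ∣ 3 := by
      have h1 : N = 3 * z + 3 := by omega
      rw [h1] at hz
      exact (Nat.dvd_add_right (dvd_mul_left z 3)).1 hz
    have := Nat.le_of_dvd (by norm_num) hz'
    omega

/-- The class sizes. -/
theorem exists_class_sizes : ∃ l : List ℕ, l.length + 1 = Nat.card (ConjClasses G) ∧
    1 + l.sum = Nat.card G ∧ (∀ x ∈ l, x ∣ Nat.card G) ∧ l.Pairwise (fun a b => b ≤ a) := by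
  classical
  haveI := Fintype.ofFinite G
  haveI := Fintype.ofFinite (ConjClasses G)
  let m : Multiset ℕ := ((Finset.univ : Finset (ConjClasses G)).erase (ConjClasses.mk 1)).val.map
    fun c => Nat.card c.carrier
  refine ⟨m.sort (· ≥ ·), ?_, ?_, ?_, Multiset.pairwise_sort _ _⟩
  · rw [Multiset.length_sort, Multiset.card_map, Nat.card_eq_fintype_card, ← Finset.card_univ]
    exact Finset.card_erase_add_one (Finset.mem_univ _)
  · rw [← Multiset.sum_coe, Multiset.sort_eq]
    have h1 := sum_conjClasses_card_eq_card (G := G)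
    rw [← Finset.add_sum_erase _ _ (Finset.mem_univ (ConjClasses.mk (1 : G)))] at h1
    have h2 : Nat.card (ConjClasses.mk (1 : G)).carrier = 1 := by
      rw [Nat.card_eq_one_iff_unique]
      refine ⟨⟨fun a b => Subtype.ext ?_⟩, ⟨⟨1, ConjClasses.mem_carrier_mk⟩⟩⟩
      rw [isConj_one_right.mp (ConjClasses.mk_eq_mk_iff_isConj.mp
          (ConjClasses.mem_carrier_iff_mk_eq.mp a.2).symm),
        isConj_one_right.mp (ConjClasses.mk_eq_mk_iff_isConj.mp
          (ConjClasses.mem_carrier_iff_mk_eq.mp b.2).symm)]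
    show 1 + ((Finset.univ.erase (ConjClasses.mk (1 : G))).val.map fun c => Nat.card c.carrier).sum = _
    rw [Nat.card_eq_fintype_card (α := G), ← h1, ← h2]
    simp [Nat.card_eq_fintype_card, Finset.sum_eq_multiset_sum]
  · intro x hx
    rw [Multiset.mem_sort] at hx
    obtain ⟨c, -, rfl⟩ := Multiset.mem_map.1 hx
    obtain ⟨y, rfl⟩ := ConjClasses.mk_surjective c
    refine Dvd.intro (Nat.card (MulAction.stabilizer (ConjAct G) y)) ?_
    rw [← ConjAct.orbit_eq_carrier_conjClasses, mul_comm]
    rw [mul_comm, ← Nat.card_prod]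
    exact Nat.card_congr ((MulAction.orbitProdStabilizerEquivGroup (ConjAct G) y).trans
      ConjAct.ofConjAct.toEquiv)

theorem card_le_six_of_classes (h : Nat.card (ConjClasses G) ≤ 3) : Nat.card G ≤ 6 := by
  obtain ⟨l, hl, hs, hd, hp⟩ := exists_class_sizes (G := G)
  match l with
  | [] => simp at hs; omega
  | [x] =>
    simp at hs
    have h1 := hd x (by simp)
    rcases Nat.lt_or_ge x 2 with hx | hx
    · omega
    · rw [← hs, Nat.dvd_add_left dvd_rfl] at h1
      exact absurd (Nat.le_of_dvd one_pos h1) (by omega)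
  | [x, y] =>
    simp at hs hp
    exact three_sum (hd x (by simp)) (hd y (by simp)) (by omega) hp
  | _ :: _ :: _ :: _ => simp at hl; omega

theorem card_le_of_classes_four (h : Nat.card (ConjClasses G) ≤ 4) : Nat.card G ≤ 42 := by
  obtain ⟨l, hl, hs, hd, hp⟩ := exists_class_sizes (G := G)
  match l with
  | [] => simp at hs; omega
  | [x] => have := card_le_six_of_classes (G := G) (by simp at hl; omega); omega
  | [x, y] => have := card_le_six_of_classes (G := G) (by simp at hl; omega); omega
  | [x, y, z] =>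
    simp at hs hp
    exact four_sum (hd x (by simp)) (hd y (by simp)) (hd z (by simp)) (by omega) hp.1.1 hp.2
  | _ :: _ :: _ :: _ :: _ => simp at hl; omega

end Cfsg.Agent.SolvClassBound
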