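import Cfsg.Agent.Lib.SolvClassBound.Count
import Cfsg.Agent.Lib.OddBaseTwo.Main

/-!
# Decompositions permuted by a group

For a decomposition of an irreducible module: the blocks are irreducible for their stabilisers,
have the same order, and the kernel on the blocks embeds in the product of the groups induced.
-/

set_option autoImplicit false
set_option linter.style.haveILetI false

namespace Cfsg.Agent.SolvClassBound

open OddBaseTwo MulAction

universe u

variable {A : Type u} [Group A] {V : Type u} [AddCommGroup V] [DistribMulAction A V]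
  {ι : Type u} [Fintype ι] [MulAction A ι] {W : ι → AddSubgroup V}

theorem exists_rep (hirr : IsIrr A V) (hd : IsDecomp (A := A) W) (i₀ i : ι) :
    ∃ a : A, a • i₀ = i := by
  classical
  by_contra hi
  let S : ι → AddSubgroup V := fun j => if j ∈ orbit A i₀ then W j else ⊥
  have hS : ∀ (a : A) (j : ι), ∀ x ∈ S j, a • x ∈ S (a • j) := by
    intro a j x hx
    by_cases hj : j ∈ orbit A i₀
    · simp only [S, if_pos hj] at hx
      simp only [S, if_pos (show a • j ∈ orbit A i₀ by rw [← orbit_eq_iff.2 hj]; exact mem_orbit j a)]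
      exact hd.smul_mem a j x hx
    · simp only [S, if_neg hj, AddSubgroup.mem_bot] at hx
      rw [hx, smul_zero]; exact zero_mem _
  have h := hd.family_top hirr S (fun j => by simp only [S]; split_ifs; exacts [le_rfl, bot_le]) hS
    (i₀ := i₀) (by simp only [S, if_pos (mem_orbit_self i₀)]; exact hd.ne_bot i₀) i
  simp only [S, if_neg (show i ∉ orbit A i₀ from hi), le_bot_iff] at h
  exact hd.ne_bot i h

theorem block_inv (hd : IsDecomp (A := A) W) (i : ι) : IsInv (stabilizer A i) V (W i) :=
  fun b x hx => by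
    have := hd.smul_mem b i x hx
    rwa [mem_stabilizer_iff.1 b.2] at this

/-- The permutations of a block induced by its stabiliser. -/
def blockGroup (hd : IsDecomp (A := A) W) (i : ι) : Subgroup (Equiv.Perm (W i)) :=
  letI := subAction (W i) (block_inv hd i)
  (MulAction.toPermHom (stabilizer A i) (W i)).range

instance blockGroupFinite [Finite V] (hd : IsDecomp (A := A) W) (i : ι) :
    Finite (blockGroup hd i) :=
  inferInstanceAs (Finite (blockGroup hd i : Set (Equiv.Perm (W i))))

theorem block_irr (hirr : IsIrr A V) (hd : IsDecomp (A := A) W) (i₀ : ι) :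
    letI := subAction (W i₀) (block_inv hd i₀)
    IsIrr (stabilizer A i₀) (W i₀) := by
  letI := subAction (W i₀) (block_inv hd i₀)
  choose rep hrep using exists_rep hirr hd i₀
  intro U hU
  by_cases hU0 : U = ⊥
  · exact Or.inl hU0
  right
  let S : ι → AddSubgroup V := fun j =>
    (U.map (W i₀).subtype).comap (DistribSMul.toAddMonoidHom V (rep j)⁻¹)
  have hmemS : ∀ j x, x ∈ S j ↔ ∃ y ∈ U, (y : V) = (rep j)⁻¹ • x := fun j x => Iff.rfl
  have hb : ∀ (a : A) (j : ι), (rep (a • j))⁻¹ * a * rep j ∈ stabilizer A i₀ := fun a j => by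
    rw [mem_stabilizer_iff, mul_smul, mul_smul, hrep, inv_smul_eq_iff, hrep]
  have hSW : ∀ j, S j ≤ W j := fun j x hx => by
    obtain ⟨y, -, hy⟩ := (hmemS j x).1 hx
    have := hd.smul_mem (rep j) i₀ _ y.2
    rwa [hrep, hy, smul_inv_smul] at this
  have hS : ∀ (a : A) (j : ι), ∀ x ∈ S j, a • x ∈ S (a • j) := fun a j x hx => by
    obtain ⟨y, hy, hyx⟩ := (hmemS j x).1 hx
    refine (hmemS _ _).2 ⟨(⟨_, hb a j⟩ : stabilizer A i₀) • y, hU _ y hy, ?_⟩
    show ((rep (a • j))⁻¹ * a * rep j) • (y : V) = _
    rw [hyx, mul_smul, mul_smul, smul_inv_smul]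
  obtain ⟨⟨y, hy⟩, hy0⟩ := AddSubgroup.ne_bot_iff_exists_ne_zero.1 hU0
  have hne : S i₀ ≠ ⊥ := fun h => hy0 (Subtype.ext (Subtype.ext (by
    have hm : rep i₀ • (y : V) ∈ S i₀ := (hmemS _ _).2 ⟨y, hy, (inv_smul_smul _ _).symm⟩
    rw [h, AddSubgroup.mem_bot, smul_eq_zero_iff_eq] at hm
    exact hm)))
  refine eq_top_iff.2 fun z _ => ?_
  have hm : rep i₀ • (z : V) ∈ S i₀ := hd.family_top hirr S hSW hS hne i₀ (by
    have := hd.smul_mem (rep i₀) i₀ _ z.2
    rwa [hrep] at this)
  obtain ⟨w, hw, hwz⟩ := (hmemS _ _).1 hm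
  rw [inv_smul_smul] at hwz
  exact Subtype.ext hwz ▸ hw

theorem card_block_eq [Finite V] (hirr : IsIrr A V) (hd : IsDecomp (A := A) W) (i j : ι) :
    Nat.card (W i) = Nat.card (W j) := by
  have key : ∀ i j : ι, Nat.card (W i) ≤ Nat.card (W j) := fun i j => by
    obtain ⟨a, ha⟩ := exists_rep hirr hd i j
    refine Nat.card_le_card_of_injective
      (fun x : W i => (⟨a • (x : V), ha ▸ hd.smul_mem a i _ x.2⟩ : W j)) fun x y h => ?_
    exact Subtype.ext (smul_left_cancel a (congrArg Subtype.val h))
  exact le_antisymm (key i j) (key j i)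

theorem card_eq_pow [Finite V] (hirr : IsIrr A V) (hd : IsDecomp (A := A) W) (i₀ : ι) :
    Nat.card V = Nat.card (W i₀) ^ Fintype.card ι := by
  rw [← Nat.card_eq_of_bijective _ hd.bij, Nat.card_pi, ← Finset.card_univ, ← Finset.prod_const]
  exact Finset.prod_congr rfl fun i _ => card_block_eq hirr hd i i₀

/-- The kernel on the blocks, inside the product of the induced groups. -/
theorem exists_injective_blocks [FaithfulSMul A V] (hd : IsDecomp (A := A) W) :
    ∃ f : (MulAction.toPermHom A ι).ker →* (∀ i, blockGroup hd i), Function.Injective f := by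
  have hfix : ∀ (b : (MulAction.toPermHom A ι).ker) (i : ι), (b : A) ∈ stabilizer A i := fun b i =>
    congrFun (congrArg DFunLike.coe (MonoidHom.mem_ker.1 b.2)) i
  let f : ∀ i, (MulAction.toPermHom A ι).ker →* blockGroup hd i := fun i =>
    letI := subAction (W i) (block_inv hd i)
    (MulAction.toPermHom (stabilizer A i) (W i)).rangeRestrict.comp
      (Subgroup.inclusion fun a ha => hfix ⟨a, ha⟩ i)
  refine ⟨MonoidHom.pi f, fun a b hab => Subtype.ext (eq_of_smul_eq_smul fun x : V => ?_)⟩
  obtain ⟨w, rfl⟩ := hd.bij.2 x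
  simp only [Finset.smul_sum]
  refine Finset.sum_congr rfl fun i _ => ?_
  exact congrArg Subtype.val (Equiv.congr_fun (congrArg Subtype.val (congrFun hab i)) (w i))

theorem RhoLE.of_decomp [Finite A] [Finite V] [FaithfulSMul A V] (hd : IsDecomp (A := A) W) {R : ℕ}
    (h : ∀ i, RhoLE (blockGroup hd i) R) :
    RhoLE A (Nat.card (MulAction.toPermHom A ι).range ^ 2 * R ^ Fintype.card ι) := by
  obtain ⟨f, hf⟩ := exists_injective_blocks hd
  have := RhoLE.of_subgroup (MulAction.toPermHom A ι).ker
    ((rhoLE_pi h).of_injective f hf)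
  rwa [Subgroup.index_ker] at this

/-- An induced group acts faithfully and irreducibly on its block. -/
theorem blockGroup_spec [Finite A] [Finite V] (hsol : Group.IsSolvable A) (hirr : IsIrr A V)
    (hd : IsDecomp (A := A) W) (i : ι) : Group.IsSolvable (blockGroup hd i) ∧
    ∃ act : DistribMulAction (blockGroup hd i) (W i),
      (letI := act; FaithfulSMul (blockGroup hd i) (W i) ∧ IsIrr (blockGroup hd i) (W i)) := by
  haveI := hsol
  letI := subAction (W i) (block_inv hd i)
  refine ⟨Group.isSolvable_of_surjective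
    (MulAction.toPermHom (stabilizer A i) (W i)).rangeRestrict_surjective,
    ⟨OddBaseTwo.rangeAction (stabilizer A i) (W i), ?_, ?_⟩⟩
  · exact ⟨fun {a b} h => Subtype.ext (Equiv.ext fun x => h x)⟩
  · intro U hU
    exact block_irr hirr hd i U fun a z hz =>
      hU ((MulAction.toPermHom (stabilizer A i) (W i)).rangeRestrict a) z hz

end Cfsg.Agent.SolvClassBound
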