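import Cfsg.Agent.Lib.SolvClassBound.Prim
import Mathlib.GroupTheory.Perm.Basic
import Mathlib.GroupTheory.Sylow

/-!
# The section of order four

* `autC_dvd_six`: on a section of order four the induced group has order dividing six.
* `classes_sfour`: `4 |Z| ≤ k(A)` when `A/Z` has order 24.
-/

set_option autoImplicit false
set_option linter.style.haveILetI false
set_option linter.unusedSectionVars false

namespace Cfsg.Agent.SolvClassBound

open OddBaseTwo SolvableTransitive
open scoped Pointwise

universe u v w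

/-- A group of order 24 with a self-centralising four group. -/
theorem exists_reps {Q : Type u} [Group Q] [Finite Q] (N : Subgroup Q) [N.Normal]
    (hQ : Nat.card Q = 24) (hN : Nat.card N = 4) (h2 : ∀ a ∈ N, a * a = 1)
    (hcen : ∀ q : Q, (∀ a ∈ N, q * a = a * q) → q ∈ N) :
    ∃ x y n t : Q, orderOf x = 3 ∧ orderOf y = 4 ∧ (∀ g, g * y = y * g → g ∈ Subgroup.zpowers y) ∧
      n ∈ N ∧ orderOf n = 2 ∧ t ∉ N ∧ orderOf t = 2 := by
  classical
  haveI := Fintype.ofFinite Q
  have hcomm : ∀ a ∈ N, ∀ b ∈ N, a * b = b * a := fun a ha b hb => by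
    have h1 : a⁻¹ = a := inv_eq_of_mul_eq_one_left (h2 a ha)
    have h3 : b⁻¹ = b := inv_eq_of_mul_eq_one_left (h2 b hb)
    have h4 : (a * b)⁻¹ = a * b := inv_eq_of_mul_eq_one_left (h2 _ (N.mul_mem ha hb))
    rw [mul_inv_rev, h1, h3] at h4
    exact h4.symm
  haveI : Fact (Nat.Prime 3) := ⟨Nat.prime_three⟩
  haveI : Fact (Nat.Prime 2) := ⟨Nat.prime_two⟩
  obtain ⟨x, hx⟩ := exists_prime_orderOf_dvd_card' (G := Q) 3 (by rw [hQ]; norm_num)
  have hN2 : IsPGroup 2 N := IsPGroup.of_card (n := 2) (by rw [hN]; norm_num)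
  -- a Sylow subgroup of order eight
  obtain ⟨P, hNP⟩ := hN2.exists_le_sylow
  have hP : Nat.card P = 8 := by
    rw [P.card_eq_multiplicity, hQ, show (24 : ℕ) = 2 ^ 3 * 3 by norm_num,
      Nat.factorization_mul (by norm_num) (by norm_num), Nat.Prime.factorization_pow Nat.prime_two,
      Nat.Prime.factorization Nat.prime_three]
    norm_num
  obtain ⟨n₀, hn₀⟩ : ∃ a ∈ N, a ≠ (1 : Q) := by
    by_contra! h
    rw [(Subgroup.eq_bot_iff_forall N).2 h, Subgroup.card_bot] at hN
    omega
  have hPnc : ∃ a ∈ (P : Subgroup Q), ∃ b ∈ (P : Subgroup Q), a * b ≠ b * a := by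
    by_contra! h
    have hle : (P : Subgroup Q) ≤ N := fun q hq => hcen q fun a ha => h q hq a (hNP ha)
    have := Subgroup.card_le_of_le hle
    omega
  obtain ⟨y, hyP, hy⟩ : ∃ y ∈ (P : Subgroup Q), orderOf y = 4 := by
    by_contra! h
    have hsq : ∀ a ∈ (P : Subgroup Q), a * a = 1 := fun a ha => by
      have h1 : orderOf a ∣ 2 ^ 3 := by
        rw [show (2 : ℕ) ^ 3 = 8 by norm_num, ← hP]
        exact Subgroup.orderOf_dvd_natCard _ ha
      obtain ⟨i, hi, hi'⟩ := (Nat.dvd_prime_pow Nat.prime_two).1 h1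
      interval_cases i
      · rw [pow_zero, orderOf_eq_one_iff] at hi'
        rw [hi', one_mul]
      · rw [← sq]
        rw [pow_one] at hi'
        rw [← hi']
        exact pow_orderOf_eq_one a
      · exact absurd (by rw [hi']; norm_num) (h a ha)
      · exfalso
        have htop : Subgroup.zpowers a = (P : Subgroup Q) := Subgroup.eq_of_le_of_card_ge
          (Subgroup.zpowers_le.2 ha) (by rw [Nat.card_zpowers, hi', hP]; norm_num)
        obtain ⟨b, hb, c, hc, hbc⟩ := hPnc
        rw [← htop] at hb hc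
        obtain ⟨i, rfl⟩ := hb
        obtain ⟨j, rfl⟩ := hc
        exact hbc (zpow_mul_comm a i j)
    obtain ⟨b, hb, c, hc, hbc⟩ := hPnc
    have h1 : b⁻¹ = b := inv_eq_of_mul_eq_one_left (hsq b hb)
    have h3 : c⁻¹ = c := inv_eq_of_mul_eq_one_left (hsq c hc)
    have h4 : (b * c)⁻¹ = b * c := inv_eq_of_mul_eq_one_left (hsq _ ((P : Subgroup Q).mul_mem hb hc))
    rw [mul_inv_rev, h1, h3] at h4
    exact hbc h4.symm
  have hyN : y ∉ N := fun h => by
    have h1 := h2 y h
    rw [← sq] at h1
    have := Nat.le_of_dvd (by norm_num) (orderOf_dvd_of_pow_eq_one h1)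
    omega
  have hy2N : y * y ∈ N := by
    have hidx : (N.subgroupOf (P : Subgroup Q)).index = 2 := by
      have h1 := (N.subgroupOf (P : Subgroup Q)).index_mul_card
      rw [Nat.card_congr (Subgroup.subgroupOfEquivOfLe hNP).toEquiv, hN, hP] at h1
      omega
    exact Subgroup.mem_subgroupOf.1 (Subgroup.mul_self_mem_of_index_two hidx ⟨y, hyP⟩)
  have hy21 : y * y ≠ 1 := fun h => by
    rw [← sq] at h
    have := Nat.le_of_dvd (by norm_num) (orderOf_dvd_of_pow_eq_one h)
    omega
  obtain ⟨n, hn, hny⟩ : ∃ n ∈ N, y * n ≠ n * y := by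
    by_contra! h
    exact hyN (hcen y h)
  have hn1 : n ≠ 1 := fun h => hny (by rw [h, mul_one, one_mul])
  have hny2 : n ≠ y * y := fun h => hny (by rw [h, mul_assoc])
  -- the four elements
  have hfour : ∀ a ∈ N, a = 1 ∨ a = y * y ∨ a = n ∨ a = n * (y * y) := by
    intro a ha
    by_contra! hne
    obtain ⟨a1, a2, a3, a4⟩ := hne
    have h5 : n * (y * y) ≠ 1 := fun h => hny2 (by
      rw [mul_eq_one_iff_eq_inv.1 h, inv_eq_of_mul_eq_one_left (h2 _ hy2N)])
    have hcard : ({1, y * y, n, n * (y * y), a} : Finset Q).card = 5 := by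
      rw [Finset.card_insert_of_notMem, Finset.card_insert_of_notMem, Finset.card_insert_of_notMem,
        Finset.card_insert_of_notMem, Finset.card_singleton]
      · simp [Ne.symm a4]
      · simp [hy21, Ne.symm a3]
      · simp [Ne.symm hny2, Ne.symm a2, hn1]
      · simp [Ne.symm hy21, Ne.symm hn1, Ne.symm h5, Ne.symm a1]
    have hsub : ({1, y * y, n, n * (y * y), a} : Finset Q) ⊆ (N : Set Q).toFinset := by
      simp only [Finset.insert_subset_iff, Finset.singleton_subset_iff, Set.mem_toFinset, SetLike.mem_coe]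
      exact ⟨N.one_mem, hy2N, hn, N.mul_mem hn hy2N, ha⟩
    have h1 := Finset.card_le_card hsub
    rw [hcard, Set.toFinset_card, ← Nat.card_eq_fintype_card] at h1
    rw [show Nat.card (N : Set Q) = Nat.card N from rfl, hN] at h1
    omega
  have hconj : y⁻¹ * n * y = n * (y * y) := by
    rcases hfour _ (by simpa using (inferInstance : N.Normal).conj_mem n hn y⁻¹) with h | h | h | h
    · exact absurd (by rw [mul_assoc, inv_mul_eq_one] at h; exact mul_eq_right.1 h.symm) hn1
    · exact absurd (by
        have h' := congrArg (fun q => y * q * y⁻¹) h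
        simp only [mul_assoc, mul_inv_cancel, mul_one, mul_inv_cancel_left] at h'
        exact h') hny2
    · exact absurd (by
        have h' := congrArg (fun q => y * q) h
        simp only [← mul_assoc, mul_inv_cancel, one_mul] at h'
        exact h'.symm) hny
    · exact h
  refine ⟨x, y, n, y * n, hx, hy, ?_, hn, orderOf_eq_prime (by rw [sq]; exact h2 n hn) hn1, ?_, ?_⟩
  · -- the centraliser of `y`
    intro g hg
    set C := Subgroup.centralizer ({y} : Set Q) with hC
    have hle : Subgroup.zpowers y ≤ C := Subgroup.zpowers_le.2 (Subgroup.mem_centralizer_singleton_iff.2 rfl)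
    have h4 : 4 ∣ Nat.card C := by
      rw [← hy, ← Nat.card_zpowers]
      exact Subgroup.card_dvd_of_le hle
    have h24 : Nat.card C ∣ 24 := hQ ▸ Subgroup.card_subgroup_dvd_card C
    have hN3 : ¬ 3 ∣ Nat.card C := fun h3 => by
      obtain ⟨z, hz⟩ := exists_prime_orderOf_dvd_card' (G := C) 3 h3
      have hzy : (z : Q) * y = y * z := Subgroup.mem_centralizer_singleton_iff.1 z.2
      have hz3 : (z : Q) ^ 3 = 1 := by
        rw [← Subgroup.coe_pow, ← hz, pow_orderOf_eq_one, Subgroup.coe_one]
      have hzfix : (z : Q) * (y * y) = y * y * z := by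
        rw [← mul_assoc, hzy, mul_assoc, hzy, ← mul_assoc]
      have hzn : (z : Q) * n = n * z := by
        rcases hfour _ (Subgroup.Normal.conj_mem inferInstance n hn (z : Q)) with h | h | h | h
        · exact absurd (conj_eq_one_iff.1 h) hn1
        · exfalso
          apply hny2
          have h' : (z : Q) * n = y * y * z := mul_inv_eq_iff_eq_mul.1 h
          rw [← hzfix] at h'
          exact mul_left_cancel h'
        · exact mul_inv_eq_iff_eq_mul.1 h
        · exfalso
          apply hy21
          have h1 : (z : Q) * n = n * (y * y) * z := mul_inv_eq_iff_eq_mul.1 h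
          have h5 : (z : Q) * (z * n) = n * (z * z) := by
            rw [h1, ← mul_assoc, ← mul_assoc (z : Q) n, h1, mul_assoc (n * (y * y)) (z : Q) (y * y),
              hzfix, show n * (y * y) * (y * y * z) * z = n * (y * y * (y * y)) * (z * z) by group,
              h2 _ hy2N, mul_one]
          have h6 : (z : Q) * (z * (z * n)) = n * (y * y) * (z * (z * z)) := by
            rw [h5, ← mul_assoc, h1, mul_assoc]
          have hzzz : (z : Q) * (z * z) = 1 := by rw [← hz3, pow_succ, pow_two, mul_assoc]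
          rw [hzzz, mul_one, show (z : Q) * (z * (z * n)) = z * (z * z) * n by group, hzzz, one_mul] at h6
          exact mul_eq_left.1 h6.symm
      have hzN : (z : Q) ∈ N := hcen _ fun a ha => by
        rcases hfour a ha with rfl | rfl | rfl | rfl
        · rw [one_mul, mul_one]
        · exact hzfix
        · exact hzn
        · rw [← mul_assoc, hzn, mul_assoc, hzfix, ← mul_assoc]
      have h1 : orderOf (z : Q) ∣ 4 := hN ▸ Subgroup.orderOf_dvd_natCard _ hzN
      rw [Subgroup.orderOf_coe, hz] at h1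
      omega
    have hC4 : Nat.card C = 4 := by
      have := Nat.le_of_dvd (by norm_num) h24
      obtain ⟨k, hk⟩ := h4
      by_contra hne
      have : k ≤ 6 := by omega
      rw [hk] at hN3 h24 hne
      obtain rfl : k = 2 := by
        interval_cases k <;> first | rfl | omega
      -- eight
      have hC8 : IsPGroup 2 C := IsPGroup.of_card (n := 3) (by rw [hk]; norm_num)
      obtain ⟨P', hP'⟩ := hC8.exists_le_sylow
      have hP'8 : Nat.card P' = 8 := by rw [P'.card_eq_multiplicity, ← P.card_eq_multiplicity, hP]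
      have heq : C = (P' : Subgroup Q) := Subgroup.eq_of_le_of_card_ge hP' (by rw [hk]; omega)
      obtain ⟨g', hg'⟩ := MulAction.exists_smul_eq Q P P'
      have hNP' : N ≤ (P' : Subgroup Q) := by
        intro a ha
        rw [← hg']
        show a ∈ MulAut.conj g' • (P : Subgroup Q)
        rw [Subgroup.mem_pointwise_smul_iff_inv_smul_mem]
        exact hNP (by simpa using (inferInstance : N.Normal).conj_mem a ha g'⁻¹)
      have hnC : n ∈ C := by rw [heq]; exact hNP' hn
      exact hny (Subgroup.mem_centralizer_singleton_iff.1 hnC).symm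
    rw [Subgroup.eq_of_le_of_card_ge hle (by rw [hC4, Nat.card_zpowers, hy])]
    exact Subgroup.mem_centralizer_singleton_iff.2 hg
  · exact fun h => hyN (by simpa using N.mul_mem h (N.inv_mem hn))
  · refine orderOf_eq_prime ?_ fun h => hyN ?_
    · rw [sq]
      calc y * n * (y * n) = y * y * (y⁻¹ * n * y) * n := by group
        _ = y * y * (n * (y * y)) * n := by rw [hconj]
        _ = 1 := by
          rw [← mul_assoc (y * y) n, hcomm _ hy2N _ hn, mul_assoc n, h2 _ hy2N, mul_one, h2 _ hn]
    · rw [mul_eq_one_iff_eq_inv.1 h]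
      exact N.inv_mem hn

variable {A : Type u} [Group A] [Finite A] {K : Type w} [Field K] [Finite K] {V : Type v}
  [AddCommGroup V] [Module K V] [DistribMulAction A V] [FaithfulSMul A V] [Finite V] [Nontrivial V]
  (P : PrimData A K V)

theorem sq_W_four (hW : Nat.card P.W = 4) (w : P.W) : w * w = 1 := by
  by_contra hne
  have h4 : orderOf w ∣ 2 ^ 2 := by
    have := orderOf_dvd_natCard w
    rw [hW] at this
    simpa using this
  obtain ⟨i, hi, hi'⟩ := (Nat.dvd_prime_pow Nat.prime_two).1 h4
  have hi2 : i = 2 := by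
    by_contra h
    refine hne ?_
    rw [← sq, ← orderOf_dvd_iff_pow_eq_one, hi']
    interval_cases i
    · exact one_dvd _
    · exact dvd_rfl
    · exact absurd rfl h
  have htop : Subgroup.zpowers w = ⊤ :=
    Subgroup.eq_top_of_card_eq _ (by rw [Nat.card_zpowers, hi', hi2, hW]; norm_num)
  refine hne ?_
  have hw1 : w = 1 := P.nondeg w fun w' => by
    obtain ⟨k, rfl⟩ := Subgroup.mem_zpowers_iff.1 (htop ▸ Subgroup.mem_top w')
    rw [map_zpow, P.halt, one_zpow]
  rw [hw1, one_mul]

theorem autC_dvd_six (hW : Nat.card P.W = 4) : Nat.card (autC P) ∣ 6 := by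
  classical
  haveI := Fintype.ofFinite P.W
  have hne : ∀ φ : autC P, ∀ w : P.W, (φ : MulAut P.W) w ≠ 1 ↔ w ≠ 1 := fun φ w =>
    not_congr (MulEquivClass.map_eq_one_iff (f := (φ : MulAut P.W)))
  let g : autC P →* Equiv.Perm {w : P.W // w ≠ 1} :=
    { toFun := fun φ => Equiv.Perm.subtypePerm ((φ : MulAut P.W).toEquiv) (p := fun w => w ≠ 1) (hne φ)
      map_one' := Equiv.ext fun w => Subtype.ext rfl
      map_mul' := fun φ ψ => Equiv.ext fun w => Subtype.ext rfl }
  have hg : Function.Injective g := fun φ ψ h => Subtype.ext (MulEquiv.ext fun w => by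
    by_cases hw : w = 1
    · rw [hw, map_one, map_one]
    · exact congrArg Subtype.val (Equiv.congr_fun h ⟨w, hw⟩))
  have h := Subgroup.card_dvd_of_injective g hg
  rwa [Nat.card_eq_fintype_card (α := Equiv.Perm _), Fintype.card_perm, Fintype.card_subtype_compl,
    Fintype.card_subtype_eq, ← Nat.card_eq_fintype_card (α := P.W), hW] at h

/-- Counting the classes over five classes of the quotient. -/
theorem classes_sfour (hC : P.C = ⊤) (hm : Module.finrank K V = 2) (hW : Nat.card P.W = 4)
    (hh : Nat.card (autC P) = 6) : 4 * Nat.card P.Z ≤ Nat.card (ConjClasses A) := by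
  classical
  set π := QuotientGroup.mk' P.Z
  have hc : ∀ z ∈ P.Z, ∀ g : A, g * z = z * g := fun z hz g =>
    P.commute_Z hz (hC ▸ Subgroup.mem_top g)
  have hsq : ∀ z : P.Z, ∀ x : A, IsConj x (x * z) → z * z = 1 := fun z x hx => by
    refine P.χ_injective (Units.ext ?_)
    rw [map_mul, map_one, Units.val_mul, Units.val_one, ← sq]
    exact root_of_isConj P hC hm z hx
  -- the image of the section
  set N : Subgroup (A ⧸ P.Z) := P.M.map π with hNdef
  haveI : N.Normal := Subgroup.Normal.map inferInstance π (QuotientGroup.mk'_surjective _)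
  let f : P.W →* A ⧸ P.Z := QuotientGroup.map (P.Z.subgroupOf P.M) P.Z P.M.subtype le_rfl
  have hf : Function.Injective f := by
    refine (injective_iff_map_eq_one f).2 fun w hw => ?_
    obtain ⟨x, rfl⟩ := QuotientGroup.mk_surjective w
    refine (QuotientGroup.eq_one_iff x).2 (Subgroup.mem_subgroupOf.2 ?_)
    exact (QuotientGroup.eq_one_iff (x : A)).1 hw
  have hfr : f.range = N := by
    ext q
    constructor
    · rintro ⟨w, rfl⟩
      obtain ⟨x, rfl⟩ := QuotientGroup.mk_surjective w
      exact ⟨x, x.2, rfl⟩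
    · rintro ⟨x, hx, rfl⟩
      exact ⟨QuotientGroup.mk ⟨x, hx⟩, rfl⟩
  have hN4 : Nat.card N = 4 := by
    rw [← hfr, ← hW]
    exact (Nat.card_congr (Equiv.ofInjective f hf)).symm
  have hQ : Nat.card (A ⧸ P.Z) = 24 := by
    have h := card_A P
    rw [Subgroup.card_eq_card_quotient_mul_card_subgroup P.Z, hC, Subgroup.index_top, hh, hW, one_mul,
      ← mul_assoc] at h
    exact Nat.eq_of_mul_eq_mul_right Nat.card_pos h
  have hexp : ∀ a ∈ N, a * a = 1 := fun a ha => by
    obtain ⟨w, rfl⟩ := hfr ▸ ha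
    rw [← map_mul, sq_W_four P hW, map_one]
  have hcen : ∀ q : A ⧸ P.Z, (∀ a ∈ N, q * a = a * q) → q ∈ N := fun q hq => by
    obtain ⟨g, rfl⟩ := QuotientGroup.mk'_surjective P.Z q
    refine ⟨g, P.mem_M_of_conj_eq_one (hC ▸ Subgroup.mem_top g) (MulEquiv.ext fun w => hf ?_), rfl⟩
    obtain ⟨x, rfl⟩ := QuotientGroup.mk_surjective w
    rw [P.conj_mk, MulAut.one_apply]
    show π ((MulAut.conjNormal g x : P.M) : A) = π x
    rw [MulAut.conjNormal_apply, map_mul, map_mul, hq _ ⟨x, x.2, rfl⟩, map_inv, mul_inv_cancel_right]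
  obtain ⟨x, y, n, t, hx, hy, hyc, hn, hn2, ht, ht2⟩ := exists_reps N hQ hN4 hexp hcen
  -- the fibres
  let fib : A ⧸ P.Z → Type u := fun q =>
    {d : ConjClasses A // ConjClasses.map π d = ConjClasses.mk q}
  have hfib : ∀ (q : A ⧸ P.Z) (g : A), π g = q → ∀ m : ℕ,
      Nat.card {z : P.Z // IsConj g (g * z)} ≤ m → Nat.card P.Z ≤ m * Nat.card (fib q) := by
    rintro q g rfl m hm'
    exact card_mul_le_fibre P.Z hc g hm'
  have h1 : Nat.card P.Z ≤ 1 * Nat.card (fib 1) :=
    hfib 1 1 (map_one π) 1 (Finite.card_le_one_iff_subsingleton.2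
      ⟨fun a b => Subtype.ext (Subtype.ext (by
        have ha := isConj_one_right.mp a.2
        have hb := isConj_one_right.mp b.2
        rw [one_mul] at ha hb
        rw [ha, hb]))⟩)
  obtain ⟨gx, hgx⟩ := QuotientGroup.mk'_surjective P.Z x
  obtain ⟨gy, hgy⟩ := QuotientGroup.mk'_surjective P.Z y
  obtain ⟨gn, hgn⟩ := QuotientGroup.mk'_surjective P.Z n
  obtain ⟨gt, hgt⟩ := QuotientGroup.mk'_surjective P.Z t
  have hxT : Nat.card P.Z ≤ 1 * Nat.card (fib x) := by
    refine hfib x gx hgx 1 ?_
    have h3 : gx ^ 3 ∈ P.Z := (QuotientGroup.eq_one_iff _).1 (by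
      show π (gx ^ 3) = 1
      rw [map_pow, hgx, ← hx, pow_orderOf_eq_one])
    have key : ∀ z : P.Z, IsConj gx (gx * z) → z = 1 := fun z hz => by
      have hz2 := hsq z gx hz
      obtain ⟨g, hg⟩ := isConj_iff.mp hz
      have hz3 : (z : A) ^ 3 = 1 := by
        have e : g * gx ^ 3 * g⁻¹ = gx ^ 3 * (z : A) ^ 3 := by
          rw [← conj_pow, hg, (show Commute gx (z : A) from hc _ z.2 gx).mul_pow]
        rw [hc _ h3 g, mul_inv_cancel_right] at e
        exact (mul_eq_left.1 e.symm)
      refine Subtype.ext ?_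
      have hz2' : (z : A) * z = 1 := congrArg Subtype.val hz2
      rw [pow_succ, pow_two, hz2', one_mul] at hz3
      exact hz3
    exact Finite.card_le_one_iff_subsingleton.2
      ⟨fun a b => Subtype.ext ((key a.1 a.2).trans (key b.1 b.2).symm)⟩
  have hyT : Nat.card P.Z ≤ 1 * Nat.card (fib y) := by
    refine hfib y gy hgy 1 ?_
    have key : ∀ z : P.Z, IsConj gy (gy * z) → z = 1 := fun z hz => by
      obtain ⟨g, hg⟩ := isConj_iff.mp hz
      have hgq : π g * y = y * π g := by
        have := congrArg π hg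
        rw [map_mul, map_mul, map_mul, show π (z : A) = 1 from (QuotientGroup.eq_one_iff _).2 z.2,
          mul_one, map_inv, hgy, mul_inv_eq_iff_eq_mul] at this
        exact this
      obtain ⟨k, hk⟩ := hyc _ hgq
      have hd : (gy ^ k)⁻¹ * g ∈ P.Z := (QuotientGroup.eq_one_iff _).1 (by
        show π ((gy ^ k)⁻¹ * g) = 1
        rw [map_mul, map_inv, map_zpow, hgy, ← hk, inv_mul_cancel])
      have hg' : g * gy = gy * g := by
        rw [show g = gy ^ k * ((gy ^ k)⁻¹ * g) by group, mul_assoc, ← hc _ hd gy, ← mul_assoc,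
          ← mul_assoc gy, (Commute.refl gy).zpow_left k, mul_assoc]
      rw [hg', mul_inv_cancel_right] at hg
      exact Subtype.ext (mul_eq_left.1 hg.symm)
    exact Finite.card_le_one_iff_subsingleton.2
      ⟨fun a b => Subtype.ext ((key a.1 a.2).trans (key b.1 b.2).symm)⟩
  have hnT : Nat.card P.Z ≤ 2 * Nat.card (fib n) :=
    hfib n gn hgn 2 (card_root_le P hC hm (by norm_num) gn)
  have htT : Nat.card P.Z ≤ 2 * Nat.card (fib t) :=
    hfib t gt hgt 2 (card_root_le P hC hm (by norm_num) gt)
  -- the five classes are distinct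
  let q : Fin 5 → A ⧸ P.Z := ![1, x, y, n, t]
  have hinj : Function.Injective fun i => ConjClasses.mk (q i) := by
    intro i j hij
    obtain ⟨g, hg⟩ := isConj_iff.mp (ConjClasses.mk_eq_mk_iff_isConj.mp hij)
    have ho : orderOf (q i) = orderOf (q j) := by rw [← hg]; exact (SemiconjBy.conj_mk g _).orderOf_eq g
    have hmem : q i ∈ N ↔ q j ∈ N := by
      rw [← hg]
      exact ⟨fun h => (inferInstance : N.Normal).conj_mem _ h g, fun h => by
        simpa [mul_assoc] using (inferInstance : N.Normal).conj_mem _ h g⁻¹⟩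
    fin_cases i <;> fin_cases j <;> simp [q, hx, hy, hn2, ht2, hn, ht] at ho hmem ⊢
  have hk : ∑ i, Nat.card (fib (q i)) ≤ Nat.card (ConjClasses A) := by
    rw [← Nat.card_sigma]
    refine Nat.card_le_card_of_injective (fun s : Σ i, fib (q i) => s.2.1) ?_
    rintro ⟨i, d, hd⟩ ⟨j, d', hd'⟩ (h : d = d')
    subst h
    obtain rfl : i = j := hinj (hd.symm.trans hd')
    rfl
  simp only [Fin.sum_univ_five, q, Matrix.cons_val_zero, Matrix.cons_val_one] at hk
  simp at hk
  omega

end Cfsg.Agent.SolvClassBound
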