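import Cfsg.Agent.Lib.SolvClassBound.Small
import Cfsg.Agent.Lib.SolvClassBound.SFour

/-!
# Irreducible solvable linear groups in characteristic at least eleven

`Good A p n`: `|A| ≤ p^(n-1) k(A)` and, for `n ≥ 2`, every `r` with `p^n ≤ r |A| + 1` has
`49 p ≤ 60 (k(A) + r)`.  `irreducible_good`: it holds for faithful irreducible solvable groups.
-/

set_option autoImplicit false
set_option linter.style.haveILetI false
set_option linter.unusedSectionVars false

namespace Cfsg.Agent.SolvClassBound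

open OddBaseTwo SolvableTransitive
open scoped commutatorElement

universe u v w

/-- The two bounds carried through the induction. -/
def Good (A : Type u) [Group A] (p n : ℕ) : Prop :=
  RhoLE A (p ^ (n - 1)) ∧ (2 ≤ n → ∀ r : ℕ, p ^ n ≤ r * Nat.card A + 1 →
    49 * p ≤ 60 * (Nat.card (ConjClasses A) + r))

theorem target_of_ratio {X k r B p : ℕ} (hp : 8 ≤ p) (hB : 0 < B) (h1 : 10 * X ≤ 59 * B * k)
    (h2 : p * p * B ≤ r * X + 1) : 49 * p ≤ 60 * (k + r) := by
  have h3 : 10 * (p * p * B) ≤ 59 * B * (r * k) + 10 := by nlinarith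
  have h4 : 10 * (p * p) ≤ 59 * (r * k) + 10 := by
    by_contra! h
    have h5 : 59 * (r * k) + 11 ≤ 10 * (p * p) := h
    have := Nat.mul_le_mul_left B h5
    nlinarith
  by_contra! hlt
  have h5 : (60 * (k + r)) * (60 * (k + r)) < (49 * p) * (49 * p) := Nat.mul_self_lt_mul_self hlt
  nlinarith [sq_nonneg ((k : ℤ) - r)]

theorem good_of_ratio {A : Type u} [Group A] {p n R : ℕ} (hp : 8 ≤ p) (h : RhoLE A R)
    (hw : R ≤ p ^ (n - 1)) (hs : 2 ≤ n → 10 * R ≤ 59 * p ^ (n - 2)) : Good A p n := by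
  refine ⟨h.mono hw, fun hn r hr => target_of_ratio hp (Nat.pow_pos (a := p) (n := n - 2) (by omega)) ?_
    (le_of_eq_of_le (by rw [← pow_two, ← pow_add]; congr 1; omega) hr)⟩
  unfold RhoLE at h
  calc 10 * Nat.card A ≤ 10 * (R * Nat.card (ConjClasses A)) := Nat.mul_le_mul_left _ h
    _ = 10 * R * Nat.card (ConjClasses A) := (mul_assoc _ _ _).symm
    _ ≤ _ := Nat.mul_le_mul_right _ (hs hn)

/-! ### Arithmetic -/

theorem top_two_target {c kk k r : ℕ} (hc : 2 ≤ c) (hk : 4 * c ≤ k) (hp : 11 ≤ c * kk + 1)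
    (hr : (c * kk + 1) * (c * kk + 1) ≤ r * (24 * c) + 1) : 49 * (c * kk + 1) ≤ 60 * (k + r) := by
  have h1 : kk * (c * kk + 2) ≤ 24 * r := by
    have h : c * (kk * (c * kk + 2)) ≤ c * (24 * r) := by nlinarith
    exact Nat.le_of_mul_le_mul_left h (by omega)
  rcases Nat.lt_or_ge kk 10 with h10 | h10
  · interval_cases kk <;> omega
  · obtain ⟨j, rfl⟩ := Nat.exists_eq_add_of_le h10
    nlinarith [Nat.zero_le (c * j), Nat.zero_le (c * (j * j))]

theorem sq_le_pow (a : ℕ) (ha : 1 ≤ a) : a * a ≤ 11 ^ (a - 1) := by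
  induction a, ha using Nat.le_induction with
  | base => norm_num
  | succ a ha ih =>
    rw [show a + 1 - 1 = (a - 1) + 1 by omega, pow_succ]
    nlinarith

theorem sq_mul_pow_le {a m d : ℕ} (ha : 0 < a) (hdm : d ≤ m) (hd : 2 ≤ d) (hn : d + 1 ≤ a * m) :
    a * a * 11 ^ (d + 1) ≤ 11 ^ (a * m) := by
  rcases Nat.lt_or_ge a 2 with h | h
  · obtain rfl : a = 1 := by omega
    simp only [one_mul] at *
    exact Nat.pow_le_pow_right (by norm_num) hn
  · have h1 := sq_le_pow a ha
    have h2 : a - 1 + (d + 1) ≤ a * m := by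
      obtain ⟨b, rfl⟩ := Nat.exists_eq_add_of_le h
      rw [add_mul, show 2 + b - 1 = b + 1 by omega]
      have := Nat.mul_le_mul_left b (show 2 ≤ m by omega)
      omega
    calc a * a * 11 ^ (d + 1) ≤ 11 ^ (a - 1) * 11 ^ (d + 1) := Nat.mul_le_mul_right _ h1
      _ = 11 ^ (a - 1 + (d + 1)) := (pow_add _ _ _).symm
      _ ≤ _ := Nat.pow_le_pow_right (by norm_num) h2

theorem eighth_weak : ∀ d, 9 ≤ d → d ^ 8 ≤ 11 ^ (d - 1) ∧ 10 * d ^ 8 ≤ 59 * 11 ^ (d - 2) := by
  intro d hd
  induction d, hd using Nat.le_induction with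
  | base => norm_num
  | succ d hd ih =>
    have h1 : 9 ^ 8 * (d + 1) ^ 8 ≤ 10 ^ 8 * d ^ 8 := by
      rw [← mul_pow, ← mul_pow]
      exact Nat.pow_le_pow_left (by omega) _
    have h2 : (d + 1) ^ 8 ≤ 11 * d ^ 8 := by
      refine Nat.le_of_mul_le_mul_left (h1.trans ?_) (show 0 < 9 ^ 8 by norm_num)
      rw [← mul_assoc]
      exact Nat.mul_le_mul_right _ (by norm_num)
    refine ⟨?_, ?_⟩
    · rw [show d + 1 - 1 = (d - 1) + 1 by omega, pow_succ]
      calc (d + 1) ^ 8 ≤ 11 * d ^ 8 := h2
        _ ≤ 11 * 11 ^ (d - 1) := Nat.mul_le_mul_left _ ih.1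
        _ = _ := by ring
    · rw [show d + 1 - 2 = (d - 2) + 1 by omega, pow_succ]
      calc 10 * (d + 1) ^ 8 ≤ 10 * (11 * d ^ 8) := Nat.mul_le_mul_left _ h2
        _ = 11 * (10 * d ^ 8) := by ring
        _ ≤ 11 * (59 * 11 ^ (d - 2)) := Nat.mul_le_mul_left _ ih.2
        _ = _ := by ring

theorem perm_bound {t s p : ℕ} (ht : 2 ≤ t) (hp : 11 ≤ p) (h1 : s ≤ 3 ^ (t - 1))
    (h2 : s ≤ t.factorial) : s ^ 2 ≤ p ^ (t - 1) ∧ 10 * s ^ 2 ≤ 59 * p ^ (t - 2) := by
  refine ⟨(Nat.pow_le_pow_left h1 2).trans ?_, ?_⟩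
  · rw [← pow_mul, mul_comm, pow_mul]
    exact Nat.pow_le_pow_left (by norm_num; omega) _
  refine le_trans ?_ (Nat.mul_le_mul_left _ (Nat.pow_le_pow_left hp _))
  rcases Nat.lt_or_ge t 5 with h5 | h5
  · interval_cases t
    all_goals exact (Nat.mul_le_mul_left _ (Nat.pow_le_pow_left h2 2)).trans (by decide)
  refine le_trans (Nat.mul_le_mul_left _ (Nat.pow_le_pow_left h1 2)) ?_
  clear h1 h2
  induction t, h5 using Nat.le_induction with
  | base => norm_num
  | succ t ht' ih =>
    have ih' := ih (by omega)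
    rw [show t + 1 - 1 = (t - 1) + 1 by omega, show t + 1 - 2 = (t - 2) + 1 by omega, pow_succ 3 (t - 1),
      mul_pow, pow_succ 11 (t - 2)]
    calc 10 * ((3 ^ (t - 1)) ^ 2 * 3 ^ 2) = 9 * (10 * (3 ^ (t - 1)) ^ 2) := by ring
      _ ≤ 9 * (59 * 11 ^ (t - 2)) := Nat.mul_le_mul_left _ ih'
      _ ≤ _ := by nlinarith

/-! ### The primitive case -/

variable {A : Type u} [Group A] [Finite A] {K : Type w} [Field K] [Finite K] {V : Type v}
  [AddCommGroup V] [Module K V] [DistribMulAction A V] [FaithfulSMul A V] [Finite V] [Nontrivial V]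
  (P : PrimData A K V)

theorem card_Z_dvd : Nat.card P.Z ∣ Nat.card K - 1 := by
  rw [← Nat.card_units]
  exact Subgroup.card_dvd_of_injective P.χ P.χ_injective

theorem prime_dvd_Z {r : ℕ} (hr : r.Prime) (h : r ∣ Nat.card P.W) : r ∣ Nat.card P.Z := by
  haveI := Fact.mk hr
  obtain ⟨w, hw⟩ := exists_prime_orderOf_dvd_card' (G := P.W) r h
  have hw1 : w ≠ 1 := fun h1 => by
    rw [h1, orderOf_one] at hw
    exact hr.one_lt.ne hw
  obtain ⟨w', hw'⟩ : ∃ w', P.form w w' ≠ 1 := by
    by_contra! hall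
    exact hw1 (P.nondeg w hall)
  have hval : P.form w w' ^ r = 1 := by
    rw [← MonoidHom.pow_apply, ← map_pow, ← hw, pow_orderOf_eq_one, map_one, MonoidHom.one_apply]
  obtain ⟨x, rfl⟩ := QuotientGroup.mk_surjective w
  obtain ⟨y, rfl⟩ := QuotientGroup.mk_surjective w'
  rw [P.form_mk] at hw' hval
  set z : P.Z := ⟨⁅(x : A), (y : A)⁆, P.good.comm _ x.2 _ y.2⟩
  rw [← orderOf_eq_prime hval hw', orderOf_injective P.χ P.χ_injective]
  exact orderOf_dvd_natCard _

theorem card_quot (hC : P.C = ⊤) :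
    Nat.card (A ⧸ P.Z) = Nat.card (autC P) * Nat.card P.W := by
  have h := card_A P
  rw [Subgroup.card_eq_card_quotient_mul_card_subgroup P.Z, hC, Subgroup.index_top, one_mul,
    ← mul_assoc] at h
  exact Nat.eq_of_mul_eq_mul_right Nat.card_pos h

theorem four_le_classes {G : Type u} [Group G] [Finite G] (h : 6 < Nat.card G) :
    4 ≤ Nat.card (ConjClasses G) := by
  by_contra! h'
  have := card_le_six_of_classes (G := G) (by omega)
  omega

theorem autC_le_seventytwo (hsol : Group.IsSolvable A) (hW : Nat.card P.W = 2 ^ 4) :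
    Nat.card (autC P) ≤ 72 := by
  letI := P.act
  haveI : Finite (Additive P.W) := inferInstanceAs (Finite P.W)
  have h := card_range_le_small 4 le_rfl A (Additive P.W) hsol P.isCR_act hW
  refine le_trans ?_ h
  refine Nat.card_le_card_of_injective (fun φ : autC P =>
    (⟨(Additive.toMul.trans ((φ : MulAut P.W).toEquiv)).trans Additive.ofMul, ?_⟩ :
      (MulAction.toPermHom A (Additive P.W)).range)) fun φ ψ hφ => ?_
  · obtain ⟨g, -, hg⟩ := φ.2
    exact ⟨g, Equiv.ext fun a => by rw [← hg]; rfl⟩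
  · exact Subtype.ext (MulEquiv.ext fun w =>
      congrArg Additive.toMul (Equiv.congr_fun (congrArg Subtype.val hφ) (Additive.ofMul w)))

/-- The bound on the group of `C` modulo scalars. -/
theorem section_bound (hsol : Group.IsSolvable A) {d : ℕ} (hd : 2 ≤ d) (hW : Nat.card P.W = d * d) :
    (d = 2 ∧ Nat.card (autC P) * Nat.card P.W ≤ 24) ∨
    (d = 3 ∧ Nat.card (autC P) * Nat.card P.W ≤ 216) ∨
    (d = 4 ∧ Nat.card (autC P) * Nat.card P.W ≤ 1152) ∨
    (d = 8 ∧ Nat.card (autC P) * Nat.card P.W ≤ 16777216) ∨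
    ((5 ≤ d ∧ d ≠ 8) ∧ Nat.card (autC P) * Nat.card P.W ≤ 11 ^ (d - 1) ∧
      10 * (Nat.card (autC P) * Nat.card P.W) ≤ 59 * 11 ^ (d - 2)) := by
  have hpair : ∀ r : ℕ, r.Prime → d = r →
      Nat.card (autC P) * Nat.card P.W ≤ (r * r - 1) * r * (r * r) := fun r hr e => by
    rw [hW, e]
    exact Nat.mul_le_mul_right _ (autC_le_pairing P hr (e ▸ hW))
  have hcube : Nat.card (autC P) * Nat.card P.W ≤ d ^ 8 := by
    rw [hW]
    refine (Nat.mul_le_mul_right _ (autC_le_cube P hsol)).trans_eq ?_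
    rw [hW]; ring
  rcases Nat.lt_or_ge d 9 with h9 | h9
  · interval_cases d
    · have := hpair 2 Nat.prime_two rfl; left; omega
    · have := hpair 3 Nat.prime_three rfl; right; left; omega
    · have := autC_le_seventytwo P hsol hW
      right; right; left
      rw [hW]; omega
    · have := hpair 5 (by norm_num) rfl; right; right; right; right; norm_num; omega
    · have := card_aut_le_coprime hW (autC P)
      right; right; right; right
      rw [hW]; norm_num; omega
    · have := hpair 7 (by norm_num) rfl; right; right; right; right; norm_num; omega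
    · right; right; right; left
      norm_num at hcube
      omega
  · right; right; right; right
    obtain ⟨h1, h2⟩ := eighth_weak d h9
    exact ⟨⟨by omega, by omega⟩, hcube.trans h1, (Nat.mul_le_mul_left _ hcube).trans h2⟩

theorem top_two {p : ℕ} (hp : p.Prime) (hp11 : 11 ≤ p) (hK : Nat.card K = p) (hC : P.C = ⊤)
    (hm : Module.finrank K V = 2) (hW : Nat.card P.W = 2 * 2) : Good A p 2 := by
  have hh := autC_dvd_six P hW
  have hc2 := prime_dvd_Z P Nat.prime_two (hW ▸ dvd_mul_right 2 2)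
  have hcp := card_Z_dvd P
  rw [hK] at hcp
  have hA : Nat.card A = Nat.card (autC P) * 4 * Nat.card P.Z := by
    rw [card_A P, hC, Subgroup.index_top, hW]; ring
  have hcK := card_Z_le P
  rw [hC, Subgroup.index_top, one_mul] at hcK
  have hf := fibre_bound P hC hm (by norm_num)
  have hQ := card_quot P hC
  rw [hW] at hQ
  by_cases h6 : Nat.card (autC P) = 6
  · have h4 := classes_sfour P hC hm hW h6
    rw [h6] at hA
    refine ⟨?_, fun _ r hr => ?_⟩
    · unfold RhoLE
      rw [hA, pow_one]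
      have := Nat.mul_le_mul_right (Nat.card (ConjClasses A)) hp11
      omega
    · obtain ⟨kk, hkk⟩ := hcp
      have hpk : p = Nat.card P.Z * kk + 1 := by omega
      have hc : 2 ≤ Nat.card P.Z := Nat.le_of_dvd Nat.card_pos hc2
      rw [hpk] at hr hp11 ⊢
      rw [hA, pow_two] at hr
      exact top_two_target hc h4 hp11 (hr.trans_eq (by ring))
  · have h3 : Nat.card (autC P) ≤ 3 := by
      have := Nat.le_of_dvd (by norm_num) hh
      interval_cases hq : Nat.card (autC P) <;> omega
    refine good_of_ratio (R := 5) (by omega) ?_ (by rw [pow_one]; omega) (fun _ => by norm_num)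
    unfold RhoLE
    rw [hA]
    rcases Nat.lt_or_ge (Nat.card (autC P)) 2 with h1 | h1
    · interval_cases hq : Nat.card (autC P) <;> omega
    · have h4 := four_le_classes (G := A ⧸ P.Z) (by omega)
      have h5 := Nat.mul_le_mul_right (Nat.card P.Z) (show 3 ≤ Nat.card (ConjClasses (A ⧸ P.Z)) - 1 by omega)
      interval_cases hq : Nat.card (autC P) <;> omega

theorem top_three {p : ℕ} (hp : p.Prime) (hp11 : 11 ≤ p) (hK : Nat.card K = p) (hC : P.C = ⊤)
    (hm : Module.finrank K V = 3) (hW : Nat.card P.W = 3 * 3)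
    (hN : Nat.card (autC P) * Nat.card P.W ≤ 216) : Good A p 3 := by
  have hc3 := prime_dvd_Z P Nat.prime_three (hW ▸ dvd_mul_right 3 3)
  have hcp := card_Z_dvd P
  rw [hK] at hcp
  have h3p : 3 ∣ p - 1 := hc3.trans hcp
  have hA : Nat.card A = (Nat.card (autC P) * Nat.card P.W) * Nat.card P.Z := by
    rw [card_A P, hC, Subgroup.index_top]; ring
  have hcK := card_Z_le P
  rw [hC, Subgroup.index_top, one_mul] at hcK
  have hf := fibre_bound P hC hm (by norm_num)
  have hQ := card_quot P hC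
  have hk4 := four_le_classes (G := A ⧸ P.Z) (by
    have := Nat.le_mul_of_pos_left (Nat.card P.W) (show 0 < Nat.card (autC P) from Nat.card_pos)
    omega)
  have h5 := Nat.mul_le_mul_right (Nat.card P.Z) (show 3 ≤ Nat.card (ConjClasses (A ⧸ P.Z)) - 1 by omega)
  have hAc : Nat.card A ≤ 216 * Nat.card P.Z := hA.le.trans (Nat.mul_le_mul_right _ hN)
  have hr108 : RhoLE A 108 := by unfold RhoLE; omega
  have hpp : 13 * 13 ≤ p * p ∧ 13 ≤ p := by
    have : p ≠ 11 ∧ p ≠ 12 := ⟨by rintro rfl; norm_num at h3p, by rintro rfl; norm_num at hp⟩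
    exact ⟨Nat.mul_self_le_mul_self (by omega), by omega⟩
  rcases Nat.lt_or_ge p 19 with h19 | h19
  swap
  · exact good_of_ratio (by omega) hr108 (by norm_num [pow_two]; omega) (fun _ => by norm_num; omega)
  have hp13 : p = 13 := by
    interval_cases p <;> first | omega | norm_num at hp
  subst hp13
  refine ⟨hr108.mono (by norm_num), fun _ r hr => ?_⟩
  norm_num at hr hcp ⊢
  have hcle := Nat.le_of_dvd (by norm_num) hcp
  by_cases hbig : Nat.card P.Z = 3
  · -- three scalars
    rw [hbig] at hf h5 hA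
    by_cases h42 : Nat.card (A ⧸ P.Z) ≤ 42
    · rw [hA] at hr
      have := Nat.mul_le_mul_left r (show Nat.card (autC P) * Nat.card P.W * 3 ≤ 126 by omega)
      omega
    · have h6 : 5 ≤ Nat.card (ConjClasses (A ⧸ P.Z)) := by
        by_contra! h'
        exact h42 (card_le_of_classes_four (by omega))
      have h7 := Nat.mul_le_mul_right 3 (show 4 ≤ Nat.card (ConjClasses (A ⧸ P.Z)) - 1 by omega)
      rw [hA] at hr
      have := Nat.mul_le_mul_left r (show Nat.card (autC P) * Nat.card P.W * 3 ≤ 648 by omega)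
      omega
  · interval_cases hq : Nat.card P.Z <;> omega

theorem top_eight {p : ℕ} (hp : p.Prime) (hp11 : 11 ≤ p) (hK : Nat.card K = p) (hC : P.C = ⊤)
    (hW : Nat.card P.W = 8 * 8) (hN : Nat.card (autC P) * Nat.card P.W ≤ 16777216) : Good A p 8 := by
  have hR : RhoLE A 16777216 := by
    refine (ratio_crude P).mono ?_
    rw [hC, Subgroup.index_top, one_pow, one_mul]
    exact hN
  rcases Nat.lt_or_ge p 13 with h13 | h13
  swap
  · exact good_of_ratio (by omega) hR
      (le_trans (by norm_num) (Nat.pow_le_pow_left h13 _))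
      (fun _ => le_trans (by norm_num) (Nat.mul_le_mul_left _ (Nat.pow_le_pow_left h13 _)))
  have hp' : p = 11 := by interval_cases p <;> first | rfl | norm_num at hp
  subst hp'
  refine ⟨hR.mono (by norm_num), fun _ r hr => ?_⟩
  have hc2 := prime_dvd_Z P Nat.prime_two (hW ▸ ⟨32, rfl⟩)
  have hcp := card_Z_dvd P
  rw [hK] at hcp
  have hcK := card_Z_le P
  rw [hC, Subgroup.index_top, one_mul] at hcK
  have hA : Nat.card A = (Nat.card (autC P) * Nat.card P.W) * Nat.card P.Z := by
    rw [card_A P, hC, Subgroup.index_top]; ring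
  have hr' := Nat.mul_le_mul_left r (hA.le.trans (Nat.mul_le_mul_right _ hN))
  norm_num at hr hcp
  have hcle := Nat.le_of_dvd (by norm_num) hcp
  interval_cases hq : Nat.card P.Z <;> omega

theorem prim_good (hsol : Group.IsSolvable A) {p a m : ℕ} (hp : p.Prime) (hp11 : 11 ≤ p)
    (hK : Nat.card K = p ^ a) (ha : 0 < a) (hm : 0 < m) (hidx : P.C.index ≤ a)
    (hfr : Module.finrank K V = m) : Good A p (a * m) := by
  obtain ⟨d, hd⟩ := P.isSquare_W
  have hd0 : 0 < d := Nat.pos_of_ne_zero fun h => Nat.card_pos.ne' (hd.trans (by rw [h, mul_zero]))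
  have hdm : d ≤ m := by
    have := P.card_W_le
    rw [hd, hfr] at this
    exact Nat.mul_self_le_mul_self_iff.1 this
  have hcr : ∀ N, Nat.card (autC P) * Nat.card P.W ≤ N → RhoLE A (a * a * N) := fun N hN =>
    (ratio_crude P).mono (Nat.mul_le_mul (by rw [sq]; exact Nat.mul_le_mul hidx hidx) hN)
  rcases Nat.lt_or_ge d 2 with hd2 | hd2
  · -- no section
    obtain rfl : d = 1 := by omega
    refine good_of_ratio (by omega) (hcr 1 (by rw [autC_of_W_one P hd, hd])) ?_ fun hn => ?_
    · rw [mul_one]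
      exact (sq_le_pow a ha).trans ((Nat.pow_le_pow_left hp11 _).trans (Nat.pow_le_pow_right (by omega)
        (Nat.sub_le_sub_right (Nat.le_mul_of_pos_right a hm) 1)))
    · rw [mul_one]
      rcases Nat.lt_or_ge a 2 with h | h
      · obtain rfl : a = 1 := by omega
        have := Nat.one_le_pow (1 * m - 2) p (by omega)
        omega
      · have h1 : 10 * (a * a) ≤ 59 * 11 ^ (a - 2) := by
          have := sq_le_pow a ha
          obtain ⟨b, rfl⟩ := Nat.exists_eq_add_of_le h
          rw [show 2 + b - 2 = b by omega]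
          rw [show 2 + b - 1 = b + 1 by omega, pow_succ] at this
          rcases Nat.eq_zero_or_pos b with rfl | hb
          · norm_num
          · clear this hidx hK hcr ha h hn
            induction b, hb using Nat.le_induction with
            | base => norm_num
            | succ b hb ih =>
              rw [pow_succ]
              nlinarith
        exact h1.trans (Nat.mul_le_mul_left _ ((Nat.pow_le_pow_left hp11 _).trans
          (Nat.pow_le_pow_right (by omega) (Nat.sub_le_sub_right (Nat.le_mul_of_pos_right a hm) 2))))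
  have ham : d ≤ a * m := hdm.trans (Nat.le_mul_of_pos_left m ha)
  by_cases htop : a * m = d
  · -- the extremal case
    obtain ⟨ha1, hmd⟩ : a = 1 ∧ m = d := by
      have h1 : a * m ≤ 1 * m := by omega
      have := Nat.le_of_mul_le_mul_right h1 hm
      obtain rfl : a = 1 := by omega
      exact ⟨rfl, by omega⟩
    subst ha1
    subst hmd
    have hC : P.C = ⊤ := Subgroup.index_eq_one.1 (le_antisymm hidx
      (Nat.pos_of_ne_zero Subgroup.index_ne_zero_of_finite))
    rw [pow_one] at hK
    rw [one_mul]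
    rcases section_bound P hsol hd2 hd with ⟨rfl, hN⟩ | ⟨rfl, hN⟩ | ⟨rfl, hN⟩ | ⟨rfl, hN⟩ | ⟨h5, hN, hN'⟩
    · exact top_two P hp hp11 hK hC hfr hd
    · exact top_three P hp hp11 hK hC hfr hd hN
    · -- degree four
      have hf := fibre_bound P hC hfr (by norm_num)
      have hk4 := four_le_classes (G := A ⧸ P.Z) (by
        rw [card_quot P hC]
        have := Nat.le_mul_of_pos_left (Nat.card P.W) (show 0 < Nat.card (autC P) from Nat.card_pos)
        omega)
      have h5 := Nat.mul_le_mul_right (Nat.card P.Z)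
        (show 3 ≤ Nat.card (ConjClasses (A ⧸ P.Z)) - 1 by omega)
      have hR : RhoLE A 659 := by
        unfold RhoLE
        have := Nat.mul_le_mul_right (Nat.card P.Z) hN
        rw [card_A P, hC, Subgroup.index_top, one_mul, ← mul_assoc]
        omega
      exact good_of_ratio (by omega) hR (le_trans (by norm_num) (Nat.pow_le_pow_left hp11 _))
        (fun _ => le_trans (by norm_num) (Nat.mul_le_mul_left _ (Nat.pow_le_pow_left hp11 _)))
    · exact top_eight P hp hp11 hK hC hd hN
    · refine good_of_ratio (by omega) (hcr _ le_rfl) ?_ fun _ => ?_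
      · rw [one_mul, one_mul]
        exact hN.trans (Nat.pow_le_pow_left hp11 _)
      · rw [one_mul, one_mul]
        exact hN'.trans (Nat.mul_le_mul_left _ (Nat.pow_le_pow_left hp11 _))
  · have hbig : ∀ X, X ≤ 11 ^ d → 10 * X ≤ 59 * 11 ^ (d - 1) →
        Nat.card (autC P) * Nat.card P.W ≤ X → Good A p (a * m) := by
      intro X h1 h2 hN
      have h3 := sq_mul_pow_le ha hdm hd2 (by omega)
      refine good_of_ratio (by omega) (hcr X hN) (le_trans ?_ (Nat.pow_le_pow_left hp11 _))
        fun hn => le_trans ?_ (Nat.mul_le_mul_left _ (Nat.pow_le_pow_left hp11 _))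
      · refine Nat.le_of_mul_le_mul_right (?_ : a * a * X * 11 ≤ 11 ^ (a * m - 1) * 11) (by norm_num)
        rw [← pow_succ, show a * m - 1 + 1 = a * m by omega]
        refine le_trans ?_ h3
        rw [pow_succ, mul_assoc]
        exact Nat.mul_le_mul_left _ (Nat.mul_le_mul_right _ h1)
      · refine Nat.le_of_mul_le_mul_right
          (?_ : 10 * (a * a * X) * 11 ^ 2 ≤ 59 * 11 ^ (a * m - 2) * 11 ^ 2) (by norm_num)
        rw [mul_assoc 59, ← pow_add, show a * m - 2 + 2 = a * m by omega]
        refine le_trans ?_ (Nat.mul_le_mul_left 59 h3)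
        rw [show d + 1 = (d - 1) + 2 by omega, pow_add]
        calc 10 * (a * a * X) * 11 ^ 2 = a * a * (10 * X) * 11 ^ 2 := by ring
          _ ≤ a * a * (59 * 11 ^ (d - 1)) * 11 ^ 2 :=
              Nat.mul_le_mul_right _ (Nat.mul_le_mul_left _ h2)
          _ = _ := by ring
    rcases section_bound P hsol hd2 hd with ⟨rfl, hN⟩ | ⟨rfl, hN⟩ | ⟨rfl, hN⟩ | ⟨rfl, hN⟩ | ⟨h5, hN, hN'⟩
    · exact hbig 24 (by norm_num) (by norm_num) hN
    · exact hbig 216 (by norm_num) (by norm_num) hN
    · exact hbig 1152 (by norm_num) (by norm_num) hN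
    · exact hbig 16777216 (by norm_num) (by norm_num) hN
    · exact hbig _ (hN.trans (Nat.pow_le_pow_right (by norm_num) (Nat.sub_le d 1)))
        (hN'.trans (Nat.mul_le_mul_left _ (Nat.pow_le_pow_right (by norm_num) (by omega)))) le_rfl

omit [Module K V] in
/-- Solvable irreducible groups. -/
theorem irreducible_good {p : ℕ} (hp : p.Prime) (hp11 : 11 ≤ p) : ∀ n : ℕ, ∀ (A : Type u) [Group A]
    [Finite A] (V : Type u) [AddCommGroup V] [Finite V] [Nontrivial V] [DistribMulAction A V]
    [FaithfulSMul A V], Group.IsSolvable A → IsIrr A V → Nat.card V = p ^ n → Good A p n := by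
  intro n
  induction n using Nat.strong_induction_on with
  | _ n ih =>
  intro A _ _ V _ _ _ _ _ hsol hirr hV
  classical
  by_cases hfield : ∀ Z : Subgroup A, Z.Normal → IsMulCommutative ↥Z → IsField ↥(spanRing V Z)
  · obtain ⟨K, _, _, _, P, a, m, hK, hn, ha, hm, hidx, hfr⟩ := exists_primData hsol hp hV hfield
    exact hn ▸ prim_good P hsol hp hp11 hK ha hm hidx hfr
  push Not at hfield
  obtain ⟨Z, hZn, hZ, hnot⟩ := hfield
  haveI := hZn
  obtain ⟨ι, _, _, W, hW, h2⟩ := (isField_or_decomp hirr Z hZ).resolve_left hnot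
  obtain ⟨i₀⟩ : Nonempty ι := Fintype.card_pos_iff.1 (by omega)
  have hcard := card_eq_pow hirr hW i₀
  obtain ⟨d, -, hd⟩ := (Nat.dvd_prime_pow hp).1 (hV ▸ AddSubgroup.card_addSubgroup_dvd_card (W i₀))
  rw [hV, hd, ← pow_mul] at hcard
  have hn : n = d * Fintype.card ι := Nat.pow_right_injective hp.two_le hcard
  have hd0 : 0 < d := Nat.pos_of_ne_zero fun h => hW.ne_bot i₀ (by
    rw [h, pow_zero] at hd
    exact AddSubgroup.card_eq_one.1 hd)
  have hdn : d < n := by
    rw [hn]
    exact lt_mul_of_one_lt_right hd0 h2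
  have hblock : ∀ i, RhoLE (blockGroup hW i) (p ^ (d - 1)) := by
    intro i
    obtain ⟨hs, act, hf, hi⟩ := blockGroup_spec hsol hirr hW i
    haveI : Nontrivial (W i) := by
      rw [← Finite.one_lt_card_iff_nontrivial, card_block_eq hirr hW i i₀, hd]
      exact Nat.one_lt_pow hd0.ne' hp.one_lt
    letI := act
    haveI := hf
    exact (ih d hdn (blockGroup hW i) (W i) hs hi ((card_block_eq hirr hW i i₀).trans hd)).1
  have hR := RhoLE.of_decomp hW hblock
  set t := Fintype.card ι with ht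
  set S := (MulAction.toPermHom A ι).range with hS
  have hs3 : Nat.card S ≤ 3 ^ (t - 1) := by
    haveI := hsol
    have := card_le_three_pow (S := S) (X := ι)
      (Group.isSolvable_of_surjective (MulAction.toPermHom A ι).rangeRestrict_surjective)
      (by rw [Nat.card_eq_fintype_card]; omega)
    rwa [Nat.card_eq_fintype_card (α := ι), ← ht] at this
  have hs4 : Nat.card S ≤ t.factorial := by
    rw [ht, ← Fintype.card_perm, ← Nat.card_eq_fintype_card]
    exact Subgroup.card_le_card_group _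
  obtain ⟨hb1, hb2⟩ := perm_bound h2 hp11 hs3 hs4
  have e1 : n - 1 = (t - 1) + (d - 1) * t := by
    obtain ⟨d', rfl⟩ : ∃ d', d = d' + 1 := ⟨d - 1, by omega⟩
    rw [hn, add_mul, one_mul, Nat.add_sub_cancel]
    omega
  have e2 : n - 2 = (t - 2) + (d - 1) * t := by omega
  refine good_of_ratio (by omega) hR ?_ fun _ => ?_
  · rw [e1, pow_add, ← pow_mul]
    exact Nat.mul_le_mul_right _ hb1
  · rw [e2, pow_add, ← pow_mul, ← mul_assoc, ← mul_assoc]
    exact Nat.mul_le_mul_right _ hb2

end Cfsg.Agent.SolvClassBound
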