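import Cfsg.Agent.Lib.Solvable.Basic
import Mathlib.GroupTheory.GroupAction.Primitive
import Mathlib.GroupTheory.Perm.Basic
import Mathlib.Algebra.Group.Subgroup.Finite
import Mathlib.Data.Fintype.CardEmbedding
import Mathlib.Tactic

/-!
# The order of a solvable permutation group

`card_le_three_pow`: a solvable group acting faithfully on `t` points has order at most `3^(t-1)`.
-/

set_option autoImplicit false
set_option linter.style.haveILetI false

namespace Cfsg.Agent.SolvClassBound

open MulAction
open scoped Pointwise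

universe u v w

theorem pow_le_three_pow {l : ℕ} (hl : 4 ≤ l) : (2 ^ l) ^ (l + 1) ≤ 3 ^ (2 ^ l - 1) := by
  induction l, hl using Nat.le_induction with
  | base => norm_num
  | succ l hl ih =>
    have h2 : 2 * l + 2 ≤ 2 ^ l := by
      clear ih
      induction l, hl using Nat.le_induction with
      | base => norm_num
      | succ l hl ih => rw [pow_succ]; omega
    have h1 : 1 ≤ 2 ^ l := Nat.one_le_two_pow
    calc (2 ^ (l + 1)) ^ (l + 1 + 1) = (2 ^ l) ^ (l + 1) * 2 ^ (2 * l + 2) := by
          rw [← pow_mul, ← pow_mul, ← pow_add]; congr 1; ring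
      _ ≤ 3 ^ (2 ^ l - 1) * 2 ^ (2 ^ l) :=
          Nat.mul_le_mul ih (Nat.pow_le_pow_right (by norm_num) h2)
      _ ≤ 3 ^ (2 ^ l - 1) * 3 ^ (2 ^ l) :=
          Nat.mul_le_mul_left _ (Nat.pow_le_pow_left (by norm_num) _)
      _ = 3 ^ (2 ^ (l + 1) - 1) := by rw [← pow_add, pow_succ]; congr 1; omega

theorem prim_arith {t l : ℕ} (ht : 5 ≤ t) (hl : 2 ^ l ≤ t) :
    t * (t - 1).descFactorial l ≤ 3 ^ (t - 1) := by
  rcases Nat.lt_or_ge t 16 with h16 | h16
  · have : l ≤ 3 := by
      by_contra h
      have := Nat.pow_le_pow_right (show 0 < 2 by norm_num) (show 4 ≤ l by omega)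
      omega
    interval_cases t <;> interval_cases l <;> first | omega | decide
  · refine (Nat.mul_le_mul_left t (Nat.descFactorial_le_pow (t - 1) l)).trans ?_
    refine (Nat.mul_le_mul_left t (Nat.pow_le_pow_left (Nat.sub_le t 1) l)).trans ?_
    rw [← pow_succ']
    set L := Nat.log 2 t with hL
    have hlL : l ≤ L := Nat.le_log_of_pow_le (by norm_num) hl
    refine (Nat.pow_le_pow_right (by omega) (Nat.add_le_add_right hlL 1)).trans ?_
    have hL4 : 4 ≤ L := Nat.le_log_of_pow_le (by norm_num) (by omega)
    have hLt : 2 ^ L ≤ t := Nat.pow_log_le_self 2 (by omega)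
    have key : ∀ s, 2 ^ L ≤ s → s ^ (L + 1) ≤ 3 ^ (s - 1) := by
      intro s hs
      induction s, hs using Nat.le_induction with
      | base => exact pow_le_three_pow hL4
      | succ s hs ih =>
        have h2L : 2 * (L + 1) ≤ 2 ^ L := by
          clear_value L
          clear hlL hL hLt hs ih
          induction L, hL4 using Nat.le_induction with
          | base => norm_num
          | succ L hL ih => rw [pow_succ]; omega
        have h3 : ∀ j, j ≤ s → (s + 1) ^ j * (s - j) ≤ s ^ j * s := by
          intro j
          induction j with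
          | zero => simp
          | succ j ih =>
            intro hj
            obtain ⟨d, hd⟩ : ∃ d, s = j + 1 + d := ⟨s - (j + 1), by omega⟩
            have h4 := ih (by omega)
            rw [show s - (j + 1) = d by omega]
            rw [show s - j = d + 1 by omega] at h4
            have : (s + 1) * d ≤ s * (d + 1) := by nlinarith
            calc (s + 1) ^ (j + 1) * d = (s + 1) ^ j * ((s + 1) * d) := by ring
              _ ≤ (s + 1) ^ j * (s * (d + 1)) := Nat.mul_le_mul_left _ this
              _ = (s + 1) ^ j * (d + 1) * s := by ring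
              _ ≤ s ^ j * s * s := Nat.mul_le_mul_right _ h4
              _ = s ^ (j + 1) * s := by ring
        have h1 : (s + 1) ^ (L + 1) ≤ 3 * s ^ (L + 1) := by
          refine Nat.le_of_mul_le_mul_right ?_ (show 0 < s by omega)
          calc (s + 1) ^ (L + 1) * s ≤ (s + 1) ^ (L + 1) * (2 * (s - (L + 1))) :=
                Nat.mul_le_mul_left _ (by omega)
            _ = 2 * ((s + 1) ^ (L + 1) * (s - (L + 1))) := by ring
            _ ≤ 3 * (s ^ (L + 1) * s) := Nat.mul_le_mul (by norm_num) (h3 _ (by omega))
            _ = _ := by ring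
        calc (s + 1) ^ (L + 1) ≤ 3 * s ^ (L + 1) := h1
          _ ≤ 3 * 3 ^ (s - 1) := Nat.mul_le_mul_left _ ih
          _ = 3 ^ (s + 1 - 1) := by rw [← pow_succ']; congr 1; omega
    exact key t hLt

/-- A generating set of logarithmic size. -/
theorem exists_small_gen {N : Type u} [Group N] [Finite N] :
    ∃ s : Finset N, (1 : N) ∉ s ∧ Subgroup.closure (s : Set N) = ⊤ ∧ 2 ^ s.card ≤ Nat.card N := by
  classical
  have key : ∀ d : ℕ, ∀ s : Finset N, (1 : N) ∉ s →
      Nat.card N < Nat.card (Subgroup.closure (s : Set N)) + d →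
      2 ^ s.card ≤ Nat.card (Subgroup.closure (s : Set N)) →
      ∃ t : Finset N, (1 : N) ∉ t ∧ Subgroup.closure (t : Set N) = ⊤ ∧ 2 ^ t.card ≤ Nat.card N := by
    intro d
    induction d with
    | zero => intro s _ h _; have := Subgroup.card_le_card_group (Subgroup.closure (s : Set N)); omega
    | succ d ih =>
      intro s h1 hd h2
      by_cases htop : Subgroup.closure (s : Set N) = ⊤
      · exact ⟨s, h1, htop, h2.trans (Subgroup.card_le_card_group _)⟩
      obtain ⟨x, hx⟩ : ∃ x, x ∉ Subgroup.closure (s : Set N) := by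
        by_contra! h; exact htop (eq_top_iff.2 fun x _ => h x)
      have hlt : Subgroup.closure (s : Set N) < Subgroup.closure ((insert x s : Finset N) : Set N) := by
        refine lt_of_le_of_ne (Subgroup.closure_mono (by simp)) fun h => hx ?_
        rw [h]; exact Subgroup.subset_closure (by simp)
      have hlt' : Nat.card (Subgroup.closure (s : Set N)) <
          Nat.card (Subgroup.closure ((insert x s : Finset N) : Set N)) :=
        lt_of_le_of_ne (Subgroup.card_le_of_le hlt.le) fun h =>
          hlt.ne (Subgroup.eq_of_le_of_card_ge hlt.le h.ge)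
      have h2' : 2 * Nat.card (Subgroup.closure (s : Set N)) ≤
          Nat.card (Subgroup.closure ((insert x s : Finset N) : Set N)) := by
        obtain ⟨k, hk⟩ := Subgroup.card_dvd_of_le hlt.le
        rw [hk, mul_comm 2]
        refine Nat.mul_le_mul_left _ ?_
        by_contra hk2
        rw [hk] at hlt'
        interval_cases k <;> omega
      have hxs : x ∉ s := fun h => hx (Subgroup.subset_closure h)
      have hx1 : x ≠ 1 := fun h => hx (h ▸ Subgroup.one_mem _)
      refine ih (insert x s) (by simp [h1, Ne.symm hx1]) ?_ ?_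
      · have := hlt'
        omega
      · rw [Finset.card_insert_of_notMem hxs, pow_succ]
        omega
  refine key (Nat.card N) ∅ (by simp) ?_ (by simp)
  have : 0 < Nat.card (Subgroup.closure ((∅ : Finset N) : Set N)) := Nat.card_pos
  omega

/-- Automorphisms are determined on generators. -/
theorem card_le_descFactorial {H : Type u} [Group H] [Finite H] {N : Type v} [Group N] [Finite N]
    (φ : H →* MulAut N) (hφ : Function.Injective φ) :
    ∃ l, 2 ^ l ≤ Nat.card N ∧ Nat.card H ≤ (Nat.card N - 1).descFactorial l := by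
  classical
  haveI := Fintype.ofFinite N
  obtain ⟨s, h1, hs, h2⟩ := exists_small_gen (N := N)
  refine ⟨s.card, h2, ?_⟩
  let f : H → (↥s ↪ {y : N // y ≠ 1}) := fun g =>
    ⟨fun x => ⟨φ g x, fun h => h1 (by
        have : (x : N) = 1 := (φ g).injective (h.trans (map_one _).symm)
        rw [← this]; exact x.2)⟩,
      fun a b hab => Subtype.ext ((φ g).injective (congrArg Subtype.val hab))⟩
  refine (Nat.card_le_card_of_injective f fun g g' h => hφ ?_).trans ?_
  · have : (φ g).toMonoidHom = (φ g').toMonoidHom := MonoidHom.eq_of_eqOn_top (by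
      rw [← hs]
      exact MonoidHom.eqOn_closure fun x hx =>
        congrArg Subtype.val (DFunLike.congr_fun h (⟨x, hx⟩ : ↥s)))
    exact MulEquiv.toMonoidHom_injective this
  · rw [Nat.card_eq_fintype_card, Fintype.card_embedding_eq, Fintype.card_coe,
      Fintype.card_subtype_compl, Fintype.card_subtype_eq, Nat.card_eq_fintype_card]

/-- The statement for fewer points. -/
def PermBound (t : ℕ) : Prop :=
  ∀ (S : Type v) [Group S] [Finite S] (X : Type v) [Finite X] [MulAction S X] [FaithfulSMul S X],
    Group.IsSolvable S → Nat.card X < t → 0 < Nat.card X → Nat.card S ≤ 3 ^ (Nat.card X - 1)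

theorem card_le_of_map {t : ℕ} (hind : PermBound.{v} t) {S : Type v} [Group S] [Finite S]
    (hS : Group.IsSolvable S) {X : Type v} [Finite X] [MulAction S X] [FaithfulSMul S X]
    {Y : Type v} [Finite Y] [MulAction S Y] (f : X → Y) (hf : ∀ (g : S) (x : X), f (g • x) = g • f x)
    (hfs : Function.Surjective f) (hY : Nat.card Y < t) (hY0 : 0 < Nat.card Y)
    (hfib : ∀ y, Nat.card {x // f x = y} < t) : Nat.card S ≤ 3 ^ (Nat.card X - 1) := by
  classical
  haveI := Fintype.ofFinite Y
  haveI := hS
  let π : S →* Equiv.Perm Y := MulAction.toPermHom S Y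
  set K := π.ker with hK
  have hquot : Nat.card π.range ≤ 3 ^ (Nat.card Y - 1) :=
    hind π.range Y (Group.isSolvable_of_surjective π.rangeRestrict_surjective) hY hY0
  let ψ : ∀ y : Y, ↥K →* Equiv.Perm {x // f x = y} := fun y =>
    letI act : MulAction ↥K {x // f x = y} :=
      { smul := fun k x => ⟨(k : S) • x.1, by
          rw [hf, x.2]
          exact congrFun (congrArg DFunLike.coe (MonoidHom.mem_ker.1 k.2)) y⟩
        one_smul := fun x => Subtype.ext (one_smul S x.1)
        mul_smul := fun a b x => Subtype.ext (mul_smul (a : S) (b : S) x.1) }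
    MulAction.toPermHom ↥K {x // f x = y}
  have hinj : Function.Injective (fun k : ↥K => fun y : Y => (ψ y).rangeRestrict k) := by
    intro a b hab
    refine Subtype.ext (eq_of_smul_eq_smul fun x : X => ?_)
    have := congrArg Subtype.val (congrFun hab (f x))
    exact congrArg Subtype.val (Equiv.congr_fun this ⟨x, rfl⟩)
  have hKle : Nat.card K ≤ ∏ y : Y, 3 ^ (Nat.card {x // f x = y} - 1) := by
    refine (Nat.card_le_card_of_injective _ hinj).trans ?_
    rw [Nat.card_pi]
    refine Finset.prod_le_prod' fun y _ => ?_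
    refine hind (ψ y).range {x // f x = y}
      (Group.isSolvable_of_surjective (ψ y).rangeRestrict_surjective) (hfib y) ?_
    obtain ⟨x, hx⟩ := hfs y
    exact Nat.card_pos_iff.2 ⟨⟨⟨x, hx⟩⟩, inferInstance⟩
  rw [← K.index_mul_card, Subgroup.index_ker]
  refine (Nat.mul_le_mul hquot hKle).trans ?_
  rw [Finset.prod_pow_eq_pow_sum, ← pow_add]
  refine Nat.pow_le_pow_right (by norm_num) ?_
  have hsum : Nat.card X = ∑ y : Y, Nat.card {x // f x = y} := by
    rw [← Nat.card_sigma]; exact Nat.card_congr (Equiv.sigmaFiberEquiv f).symm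
  have hpos : ∀ y, 1 ≤ Nat.card {x // f x = y} := fun y => by
    obtain ⟨x, hx⟩ := hfs y
    exact Nat.card_pos_iff.2 ⟨⟨⟨x, hx⟩⟩, inferInstance⟩
  have h1 : ∑ y : Y, (Nat.card {x // f x = y} - 1) + Fintype.card Y = Nat.card X := by
    rw [hsum, ← Finset.card_univ, Finset.card_eq_sum_ones, ← Finset.sum_add_distrib]
    exact Finset.sum_congr rfl fun y _ => Nat.sub_add_cancel (hpos y)
  rw [Nat.card_eq_fintype_card (α := Y)] at hY0 ⊢
  omega

/-- A solvable group acting faithfully on `t` points has order at most `3^(t-1)`. -/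
theorem permBound : ∀ t, PermBound.{v} t := by
  intro t
  induction t with
  | zero => intro S _ _ X _ _ _ _ h; omega
  | succ t ih =>
    intro S _ _ X _ _ _ hS hX hX0
    rcases Nat.lt_or_ge (Nat.card X) t with h | h
    · exact ih S X hS h hX0
    have hXt : Nat.card X = t := by omega
    classical
    haveI := hS
    haveI := Fintype.ofFinite X
    obtain ⟨⟨x₀⟩, -⟩ := Nat.card_pos_iff.1 hX0
    by_cases htriv : Nat.card S = 1
    · rw [htriv]; exact Nat.one_le_pow _ _ (by norm_num)
    by_cases htr : IsPretransitive S X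
    swap
    · -- the orbits
      letI : MulAction S (orbitRel.Quotient S X) :=
        { smul := fun _ q => q, one_smul := fun _ => rfl, mul_smul := fun _ _ _ => rfl }
      obtain ⟨g, hg⟩ : ∃ g : S, g ≠ 1 := by
        by_contra! h
        exact htriv (Nat.card_eq_one_iff_unique.2 ⟨⟨fun a b => (h a).trans (h b).symm⟩, ⟨1⟩⟩)
      obtain ⟨x, hx⟩ : ∃ x : X, g • x ≠ x := by
        by_contra! h
        exact hg (eq_of_smul_eq_smul fun x => by rw [h, one_smul])
      refine card_le_of_map ih hS (Y := orbitRel.Quotient S X) Quotient.mk''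
        (fun g x => Quotient.sound' (mem_orbit x g)) Quotient.mk''_surjective ?_ ?_ ?_
      · rw [← hXt, Nat.card_eq_fintype_card, Nat.card_eq_fintype_card]
        refine Fintype.card_lt_of_surjective_not_injective _ Quotient.mk''_surjective fun hi => hx ?_
        exact hi (Quotient.sound' (mem_orbit x g))
      · exact Nat.card_pos_iff.2 ⟨⟨Quotient.mk'' x₀⟩, inferInstance⟩
      · intro y
        rw [← hXt, Nat.card_eq_fintype_card, Nat.card_eq_fintype_card]
        obtain ⟨z, hz⟩ : ∃ z : X, Quotient.mk'' z ≠ y := by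
          by_contra! h
          refine htr ⟨fun a b => ?_⟩
          exact Quotient.exact' ((h b).trans (h a).symm)
        exact Fintype.card_subtype_lt hz
    haveI := htr
    by_cases hprim : ∀ B : Set X, IsBlock S B → IsTrivialBlock B
    swap
    · push Not at hprim
      obtain ⟨B, hB, hnt⟩ := hprim
      simp only [IsTrivialBlock, not_or] at hnt
      have hBne : B.Nonempty := by
        by_contra h
        exact hnt.1 (Set.not_nonempty_iff_eq_empty.1 h ▸ Set.subsingleton_empty)
      -- the translates of the block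
      have hcover : ∀ x : X, ∃! Y : Set.range (fun g : S => g • B), x ∈ Y.1 := fun x => by
        obtain ⟨b, hb⟩ := hBne
        obtain ⟨g, rfl⟩ := exists_smul_eq S b x
        refine ⟨⟨g • B, g, rfl⟩, Set.smul_mem_smul_set hb, ?_⟩
        rintro ⟨_, k, rfl⟩ hk
        refine Subtype.ext ?_
        exact (hB.smul_eq_smul_of_nonempty ⟨g • b, hk, Set.smul_mem_smul_set hb⟩)
      choose f hf1 hf2 using hcover
      letI : MulAction S (Set.range (fun g : S => g • B)) :=
        { smul := fun g Y => ⟨g • Y.1, by obtain ⟨k, hk⟩ := Y.2; exact ⟨g * k, show (g * k) • B = g • Y.1 by rw [← hk, mul_smul]⟩⟩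
          one_smul := fun Y => Subtype.ext (one_smul S Y.1)
          mul_smul := fun a b Y => Subtype.ext (mul_smul a b Y.1) }
      obtain ⟨a, ha, b, hb, hab⟩ : ∃ a ∈ B, ∃ b ∈ B, a ≠ b := Set.not_subsingleton_iff.1 hnt.1
      have hsurj : Function.Surjective f := fun Y => by
        obtain ⟨k, hk⟩ := Y.2
        exact ⟨k • a, (hf2 _ Y (show k • a ∈ Y.1 from hk ▸ (Set.smul_mem_smul_set ha : k • a ∈ k • B))).symm⟩
      refine card_le_of_map ih hS (Y := Set.range (fun g : S => g • B)) f
        (fun g x => (hf2 _ (g • f x) (Set.smul_mem_smul_set (hf1 x))).symm) hsurj ?_ ?_ ?_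
      · rw [← hXt, Nat.card_eq_fintype_card, Nat.card_eq_fintype_card]
        refine Fintype.card_lt_of_surjective_not_injective _ hsurj fun hi => hab ?_
        exact hi ((hf2 a ⟨B, 1, one_smul _ _⟩ ha).symm.trans (hf2 b ⟨B, 1, one_smul _ _⟩ hb))
      · exact Nat.card_pos_iff.2 ⟨⟨f x₀⟩, inferInstance⟩
      · intro Y
        rw [← hXt, Nat.card_eq_fintype_card, Nat.card_eq_fintype_card]
        obtain ⟨k, hk⟩ := Y.2
        obtain ⟨z, hz⟩ : ∃ z : X, z ∉ Y.1 := by
          by_contra! h
          refine hnt.2 (Set.eq_univ_of_forall fun x => ?_)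
          have := h (k • x)
          rw [← hk] at this
          exact Set.smul_mem_smul_set_iff.1 this
        exact Fintype.card_subtype_lt (x := z) fun h => hz (h ▸ hf1 z)
    haveI : IsPreprimitive S X := ⟨@fun B hB => hprim B hB⟩
    rcases Nat.lt_or_ge t 5 with ht5 | ht5
    · -- at most four points
      have hle : Nat.card S ≤ Nat.card (Equiv.Perm X) :=
        Nat.card_le_card_of_injective _ MulAction.toPerm_injective
      rw [Nat.card_eq_fintype_card (α := Equiv.Perm X), Fintype.card_perm,
        ← Nat.card_eq_fintype_card, hXt] at hle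
      refine hle.trans (le_of_le_of_eq ?_ (by rw [hXt]))
      rw [hXt] at hX0
      interval_cases t <;> decide
    -- the regular normal subgroup
    haveI : Nontrivial S := by
      rw [← Finite.one_lt_card_iff_nontrivial]
      have := Nat.card_pos (α := S)
      omega
    obtain ⟨N, hNn, -, hN0, hmin⟩ := Solvable.exists_minimal_normal (G := S) (K := ⊤) top_ne_bot
    haveI := hNn
    have hNc := Solvable.isMulCommutative_of_minimal (G := S) (N := N) inferInstance hN0 hmin
    have hNtr : IsPretransitive N X := by
      refine IsQuasiPreprimitive.isPretransitive_of_normal (G := S) (N := N) (fun h => hN0 ?_)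
      refine (Subgroup.eq_bot_iff_forall _).2 fun n hn => eq_of_smul_eq_smul fun x : X => ?_
      have hx : x ∈ fixedPoints N X := by rw [h]; trivial
      rw [one_smul]
      exact hx ⟨n, hn⟩
    have hreg : ∀ n : N, n • x₀ = x₀ → n = 1 := fun n hn => by
      refine Subtype.ext (eq_of_smul_eq_smul fun x : X => ?_)
      obtain ⟨m, rfl⟩ := exists_smul_eq N x₀ x
      show (n : S) • (m : S) • x₀ = (1 : S) • (m : S) • x₀
      rw [one_smul, ← mul_smul, show (n : S) * m = m * n from
        congrArg Subtype.val (hNc.is_comm.comm n m), mul_smul]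
      exact congrArg ((m : S) • ·) hn
    have hNcard : Nat.card N = t := by
      rw [← hXt]
      exact Nat.card_eq_of_bijective (fun n : N => n • x₀) ⟨fun a b hab => by
        have := hreg (b⁻¹ * a) (by rw [mul_smul, show a • x₀ = b • x₀ from hab, inv_smul_smul])
        exact (inv_mul_eq_one.1 this).symm, fun x => exists_smul_eq N x₀ x⟩
    let φ : stabilizer S x₀ →* MulAut N := (MulAut.conjNormal (H := N)).comp (stabilizer S x₀).subtype
    have hφ : Function.Injective φ := (injective_iff_map_eq_one φ).2 fun h hh => by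
      refine Subtype.ext (eq_of_smul_eq_smul fun x : X => ?_)
      obtain ⟨m, rfl⟩ := exists_smul_eq N x₀ x
      show (h : S) • (m : S) • x₀ = (1 : S) • (m : S) • x₀
      have := congrArg Subtype.val (DFunLike.congr_fun hh m)
      change (h : S) * m * (h : S)⁻¹ = m at this
      rw [one_smul, ← mul_smul, show (h : S) * m = m * h by rw [← mul_inv_eq_iff_eq_mul]; exact this,
        mul_smul, mem_stabilizer_iff.1 h.2]
    obtain ⟨l, hl, hle⟩ := card_le_descFactorial φ hφ
    rw [hNcard] at hl hle
    rw [← (stabilizer S x₀).index_mul_card, index_stabilizer_of_transitive, hXt]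
    exact (Nat.mul_le_mul_left t hle).trans (prim_arith ht5 hl)

theorem card_le_three_pow {S : Type u} [Group S] [Finite S] {X : Type v} [Finite X] [MulAction S X]
    [FaithfulSMul S X] (hS : Group.IsSolvable S) (hX : 0 < Nat.card X) :
    Nat.card S ≤ 3 ^ (Nat.card X - 1) :=
  haveI := hS
  (Nat.card_le_card_of_injective (MulAction.toPermHom S X).rangeRestrict fun _ _ h =>
    MulAction.toPerm_injective (congrArg Subtype.val h)).trans
    (permBound (Nat.card X + 1) (MulAction.toPermHom S X).range X
      (Group.isSolvable_of_surjective (MulAction.toPermHom S X).rangeRestrict_surjective)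
      (Nat.lt_succ_self _) hX)

end Cfsg.Agent.SolvClassBound
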