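import Cfsg.Agent.Lib.SolvClassBound.Count
import Cfsg.Agent.Lib.OddBaseTwo.Structure
import Cfsg.Agent.Lib.OddBaseTwo.Idempotents
import Cfsg.Agent.Lib.OddBaseTwo.Main
import Cfsg.Agent.Lib.BaseThree.Main
import Cfsg.Agent.Lib.SolvableTransitive.Field
import Mathlib.LinearAlgebra.Determinant
import Mathlib.RingTheory.RootsOfUnity.Basic

/-!
# Primitive solvable linear groups: orders and classes

With `Z` the scalars, `C` their centraliser and `W` the section:
`|A| = [A:C] h |W| |Z|`, `|Z| ≤ [A:C] k(A)`, and bounds for `h`, the order of the group `C` induces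
on `W`; `fibre_bound` counts classes over the classes of `A/Z`.
-/

set_option autoImplicit false
set_option linter.style.haveILetI false
set_option linter.unusedSectionVars false

namespace Cfsg.Agent.SolvClassBound

open OddBaseTwo SolvableTransitive

universe u v w

theorem exists_primData {A : Type u} [Group A] [Finite A] {V : Type v} [AddCommGroup V]
    [Finite V] [Nontrivial V] [DistribMulAction A V] [FaithfulSMul A V] (hsol : Group.IsSolvable A)
    {p n : ℕ} (hp : p.Prime) (hV : Nat.card V = p ^ n)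
    (hfield : ∀ Z : Subgroup A, Z.Normal → IsMulCommutative ↥Z → IsField ↥(spanRing V Z)) :
    ∃ (K : Type v) (_ : Field K) (_ : Finite K) (_ : Module K V) (P : PrimData A K V) (a m : ℕ),
      Nat.card K = p ^ a ∧ n = a * m ∧ 0 < a ∧ 0 < m ∧ P.C.index ≤ a ∧ Module.finrank K V = m := by
  classical
  obtain ⟨Z, hZn, hZ, hmax⟩ := exists_maximal_abelian_normal (G := A)
  haveI := hZn
  letI : Field ↥(spanRing V Z) := (hfield Z hZn hZ).toField
  haveI : Finite (AddMonoid.End V) :=
    Finite.of_injective (fun f => (f : V → V)) DFunLike.coe_injective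
  haveI : Module.Finite ↥(spanRing V Z) V := Module.Finite.of_finite
  have hlin : ∀ g ∈ Subgroup.centralizer (Z : Set A), ∀ (c : ↥(spanRing V Z)) (x : V),
      g • c • x = c • g • x :=
    fun g hg c x => DFunLike.congr_fun (spanRing_commute hg c.2) x
  let χ : ↥Z →* (↥(spanRing V Z))ˣ :=
    MonoidHom.toHomUnits (((toEnd V).comp Z.subtype).codRestrict (spanRing V Z)
      fun a => toEnd_mem_spanRing a.2)
  have hχ : ∀ (a : ↥Z) (x : V),
      (a : A) • x = ((χ a : (↥(spanRing V Z))ˣ) : ↥(spanRing V Z)) • x := fun a x => rfl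
  obtain ⟨M, hM, hcent⟩ := exists_goodSection hsol hZ hmax
  let P : PrimData A ↥(spanRing V Z) V := ⟨Z, M, χ, hZn, hχ, hlin, hM, hcent⟩
  set m := Module.finrank ↥(spanRing V Z) V with hm
  have hm0 : 0 < m := Module.finrank_pos
  have hcard : p ^ n = Nat.card ↥(spanRing V Z) ^ m :=
    hV ▸ Module.natCard_eq_pow_finrank (K := ↥(spanRing V Z)) (V := V)
  obtain ⟨a, -, ha⟩ := (Nat.dvd_prime_pow hp).1 (hcard ▸ dvd_pow_self _ hm0.ne')
  have hn : n = a * m := Nat.pow_right_injective hp.two_le (by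
    show p ^ n = p ^ (a * m)
    rw [hcard, ha, pow_mul])
  have ha0 : 0 < a := by
    by_contra h
    have : 1 < Nat.card ↥(spanRing V Z) := Finite.one_lt_card
    rw [ha, show a = 0 by omega, pow_zero] at this
    omega
  haveI := Fact.mk hp
  haveI : CharP ↥(spanRing V Z) p := by
    obtain ⟨r, hr⟩ := CharP.exists ↥(spanRing V Z)
    haveI := Fintype.ofFinite ↥(spanRing V Z)
    obtain ⟨k, hr', hk⟩ := FiniteField.card ↥(spanRing V Z) r
    rw [← Nat.card_eq_fintype_card, ha] at hk
    have h1 : p ∣ r := hp.dvd_of_dvd_pow (hk ▸ dvd_pow_self p ha0.ne')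
    rwa [(Nat.prime_dvd_prime_iff_eq hp hr').1 h1]
  refine ⟨↥(spanRing V Z), inferInstance, inferInstance, inferInstance, P, a, m, ha, hn, ha0, hm0,
    ?_, rfl⟩
  refine Nat.le_of_dvd ha0 ?_
  show (Subgroup.centralizer (Z : Set A)).index ∣ a
  rw [← ker_galois (V := V) Z]
  exact index_dvd_of_ker p ha (galois V Z)

/-- Automorphisms preserving a nondegenerate pairing on a group of order `r²`. -/
theorem card_le_of_pairing {W : Type u} [CommGroup W] [Finite W] {U : Type v} [CommGroup U]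
    (f : W →* W →* U) (halt : ∀ w, f w w = 1) (hnd : ∀ w, (∀ w', f w w' = 1) → w = 1)
    {r : ℕ} (hr : r.Prime) (hW : Nat.card W = r * r) (H : Subgroup (MulAut W))
    (hH : ∀ φ ∈ H, ∀ w w', f (φ w) (φ w') = f w w') : Nat.card H ≤ (r * r - 1) * r := by
  classical
  haveI := Fintype.ofFinite W
  haveI : Nontrivial W := by
    rw [← Finite.one_lt_card_iff_nontrivial, hW]
    exact Nat.one_lt_mul_iff.2 ⟨hr.pos, hr.pos, Or.inl hr.one_lt⟩
  obtain ⟨u₀, hu⟩ := exists_ne (1 : W)
  obtain ⟨v₀, hv⟩ : ∃ v, f u₀ v ≠ 1 := by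
    by_contra! h
    exact hu (hnd u₀ h)
  set U₁ := Subgroup.zpowers u₀
  have hvU : v₀ ∉ U₁ := fun h => by
    obtain ⟨k, rfl⟩ := h
    exact hv (by rw [map_zpow, halt, one_zpow])
  have hgen : Subgroup.closure ({u₀, v₀} : Set W) = ⊤ := by
    set T := Subgroup.closure ({u₀, v₀} : Set W)
    have h1 : U₁ < T := by
      refine lt_of_le_of_ne ((Subgroup.zpowers_le).2 (Subgroup.subset_closure (by simp))) fun h => hvU ?_
      rw [h]; exact Subgroup.subset_closure (by simp)
    have h2 : Nat.card U₁ ∣ r ^ 2 := by rw [sq, ← hW]; exact Subgroup.card_subgroup_dvd_card _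
    have h3 : Nat.card T ∣ r ^ 2 := by rw [sq, ← hW]; exact Subgroup.card_subgroup_dvd_card _
    obtain ⟨i, hi, hi'⟩ := (Nat.dvd_prime_pow hr).1 h2
    obtain ⟨j, hj, hj'⟩ := (Nat.dvd_prime_pow hr).1 h3
    have hlt : Nat.card U₁ < Nat.card T :=
      lt_of_le_of_ne (Subgroup.card_le_of_le h1.le) fun h =>
        h1.ne (Subgroup.eq_of_le_of_card_ge h1.le h.ge)
    have hi0 : i ≠ 0 := fun h => by
      rw [h, pow_zero, Subgroup.card_eq_one] at hi'
      exact hu ((Subgroup.eq_bot_iff_forall _).1 hi' u₀ (Subgroup.mem_zpowers u₀))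
    rw [hi', hj'] at hlt
    have := (Nat.pow_lt_pow_iff_right hr.one_lt).1 hlt
    refine Subgroup.eq_top_of_card_eq _ ?_
    rw [hj', hW, show j = 2 by omega, sq]
  have hfib : ∀ a : W, a ≠ 1 → Nat.card {b : W // f a b = f u₀ v₀} ≤ r := fun a ha => by
    rcases isEmpty_or_nonempty {b : W // f a b = f u₀ v₀} with he | ⟨⟨b₀, hb₀⟩⟩
    · simp
    have h1 : Nat.card {b : W // f a b = f u₀ v₀} ≤ Nat.card (f a).ker := by
      refine Nat.card_le_card_of_injective (fun b => (⟨b₀⁻¹ * b.1, ?_⟩ : (f a).ker)) fun b c h => ?_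
      · rw [MonoidHom.mem_ker, map_mul, map_inv, b.2, hb₀, inv_mul_cancel]
      · exact Subtype.ext (mul_left_cancel (congrArg Subtype.val h))
    refine h1.trans ?_
    have h2 : Nat.card (f a).ker ∣ r ^ 2 := by rw [sq, ← hW]; exact Subgroup.card_subgroup_dvd_card _
    obtain ⟨i, hi, hi'⟩ := (Nat.dvd_prime_pow hr).1 h2
    rw [hi']
    rcases Nat.lt_or_ge i 2 with h | h
    · calc r ^ i ≤ r ^ 1 := Nat.pow_le_pow_right hr.pos (by omega)
        _ = r := pow_one r
    · exfalso
      have htop : (f a).ker = ⊤ := Subgroup.eq_top_of_card_eq _ (by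
        rw [hi', hW, show i = 2 by omega, sq])
      exact ha (hnd a fun w => MonoidHom.mem_ker.1 (htop ▸ Subgroup.mem_top w))
  let F : H → Σ a : {a : W // a ≠ 1}, {b : W // f a.1 b = f u₀ v₀} := fun φ =>
    ⟨⟨(φ : MulAut W) u₀, fun h => hu ((φ : MulAut W).injective (h.trans (map_one _).symm))⟩,
      ⟨(φ : MulAut W) v₀, hH _ φ.2 u₀ v₀⟩⟩
  refine (Nat.card_le_card_of_injective F fun φ ψ h => Subtype.ext ?_).trans ?_
  · have h1 : (φ : MulAut W) u₀ = (ψ : MulAut W) u₀ :=
      congrArg (fun s : Σ a : {a : W // a ≠ 1}, {b : W // f a.1 b = f u₀ v₀} => s.1.1) h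
    have h2 : (φ : MulAut W) v₀ = (ψ : MulAut W) v₀ :=
      congrArg (fun s : Σ a : {a : W // a ≠ 1}, {b : W // f a.1 b = f u₀ v₀} => s.2.1) h
    refine MulEquiv.toMonoidHom_injective (MonoidHom.eq_of_eqOn_top ?_)
    rw [← hgen]
    refine MonoidHom.eqOn_closure ?_
    intro x hx
    rcases hx with rfl | rfl
    · exact h1
    · exact h2
  · rw [Nat.card_sigma]
    refine (Finset.sum_le_card_nsmul _ _ r fun a _ => hfib a.1 a.2).trans ?_
    rw [Finset.card_univ, smul_eq_mul, Fintype.card_subtype_compl, Fintype.card_subtype_eq,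
      ← Nat.card_eq_fintype_card, hW]

variable {A : Type u} [Group A] [Finite A] {K : Type w} [Field K] [Finite K] {V : Type v}
  [AddCommGroup V] [Module K V] [DistribMulAction A V] [FaithfulSMul A V] [Finite V] [Nontrivial V]
  (P : PrimData A K V)

/-- The group induced on the section. -/
def autC : Subgroup (MulAut P.W) := P.C.map P.conj

theorem ker_conj_subgroupOf : (P.conj.ker).subgroupOf P.C = P.M.subgroupOf P.C := by
  ext g
  simp only [Subgroup.mem_subgroupOf, MonoidHom.mem_ker]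
  exact ⟨fun h => P.mem_M_of_conj_eq_one g.2 h, fun h => P.conj_eq_one_of_mem h⟩

theorem card_C : Nat.card P.C = Nat.card (autC P) * (Nat.card P.W * Nat.card P.Z) := by
  rw [← P.card_M, ← Nat.card_congr (Subgroup.subgroupOfEquivOfLe P.good.le_centralizer).toEquiv]
  rw [← (P.M.subgroupOf P.C).index_mul_card]
  congr 1
  rw [← ker_conj_subgroupOf P]
  have h := Subgroup.index_ker (P.conj.comp P.C.subtype)
  have e : (P.conj.comp P.C.subtype).ker = (P.conj.ker).subgroupOf P.C := rfl
  rw [e] at h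
  rw [h, autC, MonoidHom.range_comp, Subgroup.range_subtype]

theorem card_A : Nat.card A = P.C.index * (Nat.card (autC P) * (Nat.card P.W * Nat.card P.Z)) := by
  rw [← card_C P, Subgroup.index_mul_card]

theorem card_Z_le : Nat.card P.Z ≤ P.C.index * Nat.card (ConjClasses A) := by
  classical
  haveI := Fintype.ofFinite A
  haveI := Fintype.ofFinite (ConjClasses A)
  rw [Nat.card_eq_fintype_card, Nat.card_eq_fintype_card, ← Finset.card_univ, ← Finset.card_univ]
  refine Finset.card_le_mul_card_image_of_maps_to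
    (f := fun z : P.Z => ConjClasses.mk (z : A)) (fun _ _ => Finset.mem_univ _) _ fun c _ => ?_
  rcases (Finset.univ.filter fun z : P.Z => ConjClasses.mk (z : A) = c).eq_empty_or_nonempty with
    he | ⟨z₀, hz₀⟩
  · rw [he]; simp
  rw [Subgroup.index, Nat.card_eq_fintype_card, ← Finset.card_univ]
  have key : ∀ z ∈ Finset.univ.filter (fun z : P.Z => ConjClasses.mk (z : A) = c),
      ∃ g : A, g * z₀ * g⁻¹ = (z : A) := fun z hz => by
    refine isConj_iff.mp (ConjClasses.mk_eq_mk_iff_isConj.mp ?_)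
    rw [(Finset.mem_filter.1 hz₀).2, (Finset.mem_filter.1 hz).2]
  choose! g hg using key
  refine Finset.card_le_card_of_injOn (fun z => (QuotientGroup.mk (g z) : A ⧸ P.C))
    (fun _ _ => Finset.mem_univ _) fun a ha b hb hab => Subtype.ext ?_
  have h1 : (g a)⁻¹ * g b ∈ P.C := QuotientGroup.eq.1 hab
  rw [← hg a ha, ← hg b hb]
  calc g a * z₀ * (g a)⁻¹ = g a * ((z₀ : A) * ((g a)⁻¹ * g b)) * ((g a)⁻¹ * g b)⁻¹ * (g a)⁻¹ := by
        group
    _ = g a * (((g a)⁻¹ * g b) * (z₀ : A)) * ((g a)⁻¹ * g b)⁻¹ * (g a)⁻¹ := by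
        rw [P.commute_Z z₀.2 h1]
    _ = g b * z₀ * (g b)⁻¹ := by group

/-- The crude ratio. -/
theorem ratio_crude : RhoLE A (P.C.index ^ 2 * (Nat.card (autC P) * Nat.card P.W)) := by
  unfold RhoLE
  calc Nat.card A = P.C.index * (Nat.card (autC P) * (Nat.card P.W * Nat.card P.Z)) := card_A P
    _ ≤ P.C.index * (Nat.card (autC P) * (Nat.card P.W * (P.C.index * Nat.card (ConjClasses A)))) :=
        Nat.mul_le_mul_left _ (Nat.mul_le_mul_left _ (Nat.mul_le_mul_left _ (card_Z_le P)))
    _ = _ := by ring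

theorem autC_pres : ∀ φ ∈ autC P, ∀ w w', P.form (φ w) (φ w') = P.form w w' := by
  rintro _ ⟨g, hg, rfl⟩ w w'
  exact P.form_conj hg w w'

theorem autC_le_pairing {r : ℕ} (hr : r.Prime) (hW : Nat.card P.W = r * r) :
    Nat.card (autC P) ≤ (r * r - 1) * r :=
  card_le_of_pairing P.form P.halt P.nondeg hr hW (autC P) (autC_pres P)

theorem autC_of_W_one (hW : Nat.card P.W = 1) : Nat.card (autC P) = 1 := by
  haveI := (Nat.card_eq_one_iff_unique.1 hW).1
  exact Nat.card_eq_one_iff_unique.2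
    ⟨⟨fun a b => Subtype.ext (MulEquiv.ext fun w => Subsingleton.elim _ _)⟩, ⟨1⟩⟩

theorem autC_le_cube (hsol : Group.IsSolvable A) : Nat.card (autC P) ≤ Nat.card P.W ^ 3 := by
  letI := P.act
  haveI : Finite (Additive P.W) := inferInstanceAs (Finite P.W)
  obtain ⟨x, y, z, hxyz⟩ := BaseThree.hasBase3 (V := Additive P.W) hsol P.isCR_act
  rw [show Nat.card P.W ^ 3 = Nat.card (P.W × P.W × P.W) by rw [Nat.card_prod, Nat.card_prod]; ring]
  refine Nat.card_le_card_of_injective (fun φ : autC P =>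
    ((φ : MulAut P.W) x.toMul, (φ : MulAut P.W) y.toMul, (φ : MulAut P.W) z.toMul)) ?_
  intro φ ψ heq
  obtain ⟨a, -, ha⟩ := φ.2
  obtain ⟨b, -, hb⟩ := ψ.2
  rw [Prod.mk.injEq, Prod.mk.injEq, ← ha, ← hb] at heq
  have hfix : ∀ t : Additive P.W, P.conj a t.toMul = P.conj b t.toMul → (b⁻¹ * a) • t = t := fun t ht => by
    show Additive.ofMul (P.conj (b⁻¹ * a) t.toMul) = t
    rw [map_mul, MulAut.mul_apply, ht, ← MulAut.mul_apply, ← map_mul, inv_mul_cancel, map_one]
    rfl
  refine Subtype.ext (MulEquiv.ext fun w => ?_)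
  rw [← ha, ← hb]
  have h1 := hxyz (b⁻¹ * a) (hfix x heq.1) (hfix y heq.2.1) (hfix z heq.2.2) (Additive.ofMul w)
  have h2 : P.conj (b⁻¹ * a) w = w := congrArg Additive.toMul h1
  rw [map_mul, MulAut.mul_apply] at h2
  calc P.conj a w = P.conj b (P.conj b⁻¹ (P.conj a w)) := by
        rw [← MulAut.mul_apply, ← map_mul, mul_inv_cancel, map_one, MulAut.one_apply]
    _ = P.conj b w := by rw [h2]

/-- A scalar carrying an element to a conjugate is an `m`th root of one. -/
theorem root_of_isConj (hC : P.C = ⊤) {m : ℕ} (hm : Module.finrank K V = m) {x : A} (z : P.Z)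
    (h : IsConj x (x * z)) : ((P.χ z : Kˣ) : K) ^ m = 1 := by
  haveI : Module.Finite K V := Module.Finite.of_finite
  obtain ⟨g, hg⟩ := isConj_iff.mp h
  have hmem : ∀ y : A, y ∈ P.C := fun y => hC ▸ Subgroup.mem_top y
  let ρ : A →* Module.End K V :=
    { toFun := fun y => P.op (hmem y)
      map_one' := LinearMap.ext fun v => one_smul A v
      map_mul' := fun y y' => LinearMap.ext fun v => mul_smul y y' v }
  have hz : ρ (z : A) = ((P.χ z : Kˣ) : K) • LinearMap.id := LinearMap.ext fun v => P.scalar z v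
  have h1 := congrArg (fun y => LinearMap.det (ρ y)) hg
  simp only [map_mul] at h1
  rw [hz, LinearMap.det_smul, LinearMap.det_id, mul_one, hm] at h1
  have hinv : LinearMap.det (ρ g) * LinearMap.det (ρ g⁻¹) = 1 := by
    rw [← map_mul, ← map_mul, mul_inv_cancel, map_one, map_one]
  have hx0 : LinearMap.det (ρ x) ≠ 0 := fun h0 => by
    have h2 : LinearMap.det (ρ x) * LinearMap.det (ρ x⁻¹) = 1 := by
      rw [← map_mul, ← map_mul, mul_inv_cancel, map_one, map_one]
    rw [h0, zero_mul] at h2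
    exact zero_ne_one h2
  refine mul_left_cancel₀ hx0 ?_
  rw [mul_one, ← h1, mul_comm (LinearMap.det (ρ g)), mul_assoc, hinv, mul_one]

theorem card_root_le (hC : P.C = ⊤) {m : ℕ} (hm : Module.finrank K V = m) (hm0 : 0 < m) (x : A) :
    Nat.card {z : P.Z // IsConj x (x * z)} ≤ m := by
  classical
  haveI := Fintype.ofFinite K
  let f : {z : P.Z // IsConj x (x * z)} → ↥(Polynomial.nthRootsFinset m (1 : K)) := fun z =>
    ⟨((P.χ z.1 : Kˣ) : K), (Polynomial.mem_nthRootsFinset hm0 (1 : K)).2 (root_of_isConj P hC hm z.1 z.2)⟩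
  refine (Nat.card_le_card_of_injective f fun a b h => ?_).trans ?_
  · exact Subtype.ext (P.χ_injective (Units.ext (congrArg Subtype.val h)))
  · rw [Nat.card_eq_fintype_card, Fintype.card_coe]
    refine le_trans ?_ (Polynomial.card_nthRoots m (1 : K))
    rw [Polynomial.nthRootsFinset_def]
    exact Multiset.toFinset_card_le _

/-- Classes over the classes of `A/Z`. -/
theorem fibre_bound (hC : P.C = ⊤) {m : ℕ} (hm : Module.finrank K V = m) (hm0 : 0 < m) :
    Nat.card P.Z * m + (Nat.card (ConjClasses (A ⧸ P.Z)) - 1) * Nat.card P.Z ≤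
      m * Nat.card (ConjClasses A) := by
  classical
  haveI := Fintype.ofFinite (ConjClasses A)
  haveI := Fintype.ofFinite (ConjClasses (A ⧸ P.Z))
  have hc : ∀ z ∈ P.Z, ∀ g : A, g * z = z * g := fun z hz g =>
    P.commute_Z hz (hC ▸ Subgroup.mem_top g)
  set q := ConjClasses.map (QuotientGroup.mk' P.Z) with hq
  have hk : Nat.card (ConjClasses A) = ∑ c : ConjClasses (A ⧸ P.Z), Nat.card {d // q d = c} := by
    rw [← Nat.card_sigma]; exact (Nat.card_congr (Equiv.sigmaFiberEquiv q)).symm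
  set c₁ := ConjClasses.mk (QuotientGroup.mk' P.Z (1 : A)) with hc1
  have h1 : Nat.card P.Z * m ≤ m * Nat.card {d // q d = c₁} := by
    have h := card_mul_le_fibre P.Z hc (1 : A) (m := 1) (Finite.card_le_one_iff_subsingleton.2
      ⟨fun a b => Subtype.ext (Subtype.ext (by
        have ha := isConj_one_right.mp a.2
        have hb := isConj_one_right.mp b.2
        rw [one_mul] at ha hb
        rw [ha, hb]))⟩)
    rw [one_mul] at h
    rw [mul_comm]
    exact Nat.mul_le_mul_left _ h
  have h2 : ∀ c ∈ Finset.univ.erase c₁, Nat.card P.Z ≤ m * Nat.card {d // q d = c} := by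
    intro c _
    obtain ⟨y, rfl⟩ := ConjClasses.mk_surjective c
    obtain ⟨x, rfl⟩ := QuotientGroup.mk'_surjective P.Z y
    exact card_mul_le_fibre P.Z hc x (card_root_le P hC hm hm0 x)
  have h3 := Finset.sum_le_sum h2
  rw [Finset.sum_const, smul_eq_mul, Finset.card_erase_of_mem (Finset.mem_univ _), Finset.card_univ,
    ← Nat.card_eq_fintype_card] at h3
  rw [hk, ← Finset.add_sum_erase _ _ (Finset.mem_univ c₁), mul_add, Finset.mul_sum]
  exact Nat.add_le_add h1 h3

end Cfsg.Agent.SolvClassBound
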