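import Cfsg.Agent.Lib.SolvClassBound.Main
import Cfsg.Agent.Lib.Coprime.AbelianMaschke
import Cfsg.Agent.Lib.Solvable.Basic
import Mathlib.GroupTheory.SchurZassenhaus
import Mathlib.GroupTheory.SpecificGroups.Cyclic

/-!
# The reduction to an irreducible linear group

`class_number_bound`: a solvable group of order divisible by `p²` has at least `49 p / 60` classes.
-/

set_option autoImplicit false
set_option linter.style.haveILetI false
set_option linter.unusedSectionVars false

namespace Cfsg.Agent.SolvClassBound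

open OddBaseTwo

universe u

variable {G : Type u} [Group G] [Finite G] {p : ℕ}

/-- A normal subgroup over a central `p`-subgroup of index prime to `p` is no bigger. -/
theorem eq_of_central (hp : p.Prime) (hL : ∀ L : Subgroup G, L.Normal → L ≠ ⊥ → p ∣ Nat.card L)
    {N H : Subgroup G} [H.Normal] [N.Normal] (hNH : N ≤ H) (hcen : ∀ h ∈ H, ∀ x ∈ N, h * x = x * h)
    {m : ℕ} (hN : Nat.card N = p ^ m) (hcop : ¬ p ∣ (N.subgroupOf H).index) : H = N := by
  classical
  have hcard : Nat.card (N.subgroupOf H) = p ^ m := by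
    rw [Nat.card_congr (Subgroup.subgroupOfEquivOfLe hNH).toEquiv, hN]
  have hco : Nat.Coprime (Nat.card (N.subgroupOf H)) (N.subgroupOf H).index := by
    rw [hcard]
    exact Nat.Coprime.pow_left _ (hp.coprime_iff_not_dvd.2 hcop)
  obtain ⟨K, hK⟩ := Subgroup.exists_right_complement'_of_coprime hco
  have hKcard : Nat.card K = (N.subgroupOf H).index := hK.symm.index_eq_card.symm
  set e := Nat.card K with he
  have hmem : ∀ x : H, x ^ e = 1 → x ∈ K := fun x hx => by
    obtain ⟨⟨⟨n, hn⟩, ⟨k, hk⟩⟩, rfl⟩ := hK.2 x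
    have hnN : (n : G) ∈ N := Subgroup.mem_subgroupOf.1 hn
    have hc : Commute n k := Subtype.ext (hcen k k.2 n hnN).symm
    have hk' : k ^ e = 1 := by
      have := pow_card_eq_one' (x := (⟨k, hk⟩ : K))
      exact congrArg Subtype.val this
    have h1 : n ^ e = 1 := by
      have : (n * k) ^ e = 1 := hx
      rwa [hc.mul_pow, hk', mul_one] at this
    have h2 : n ^ p ^ m = 1 := by
      have := pow_card_eq_one' (x := (⟨n, hn⟩ : N.subgroupOf H))
      rw [hcard] at this
      exact congrArg Subtype.val this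
    have h3 : n = 1 := by
      have := pow_gcd_eq_one.2 ⟨h1, h2⟩
      rw [show Nat.gcd e (p ^ m) = 1 from (Nat.Coprime.pow_left m (hp.coprime_iff_not_dvd.2
        (by rw [hKcard]; exact hcop))).symm, pow_one] at this
      exact this
    show (n : H) * k ∈ K
    rw [h3, one_mul]
    exact hk
  haveI hKn : (K.map H.subtype).Normal := ⟨by
    rintro _ ⟨k, hk, rfl⟩ g
    refine ⟨⟨g * k * g⁻¹, (inferInstance : H.Normal).conj_mem _ k.2 g⟩, hmem _ (Subtype.ext ?_), rfl⟩
    have hk' : k ^ e = 1 := congrArg Subtype.val (pow_card_eq_one' (x := (⟨k, hk⟩ : K)))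
    show (g * k * g⁻¹) ^ e = (1 : G)
    rw [conj_pow, ← Subgroup.coe_pow, hk', Subgroup.coe_one, mul_one, mul_inv_cancel]⟩
  have hKbot : K.map H.subtype = ⊥ := by
    by_contra hne
    have h := hL _ hKn hne
    rw [Subgroup.card_map_of_injective H.subtype_injective, ← he, hKcard] at h
    exact hcop h
  rw [Subgroup.map_eq_bot_iff_of_injective _ H.subtype_injective] at hKbot
  have h1 : (N.subgroupOf H).index = 1 := by rw [← hKcard, he, hKbot, Subgroup.card_bot]
  exact le_antisymm (Subgroup.relIndex_eq_one.1 h1) hNH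

/-- An elementary abelian normal subgroup of index prime to `p` splits over a normal subgroup. -/
theorem exists_compl_normal [Fact p.Prime] (M : Subgroup G) [M.Normal]
    (hM : ∀ a ∈ M, ∀ b ∈ M, a * b = b * a) (hexp : ∀ a ∈ M, a ^ p = 1) (hcop : ¬ p ∣ M.index)
    (N : Subgroup G) [N.Normal] (hNM : N ≤ M) : ∃ D : Subgroup G, D.Normal ∧ D ≤ M ∧ D ⊓ N = ⊥ ∧
      D ⊔ N = M ∧ Nat.card D * Nat.card N = Nat.card M := by
  letI : CommGroup M :=
    { (inferInstance : Group M) with mul_comm := fun a b => Subtype.ext (hM a a.2 b b.2) }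
  let φ : G →* MulAut M := MulAut.conjNormal
  have hle : M ≤ φ.ker := fun a ha => MonoidHom.mem_ker.2 (MulEquiv.ext fun x => Subtype.ext (by
    show a * x * a⁻¹ = (x : G)
    rw [hM a ha x x.2, mul_inv_cancel_right]))
  have hX : (Nat.card φ.range).Coprime p := by
    refine Nat.Coprime.symm ((Fact.out : p.Prime).coprime_iff_not_dvd.2 fun h => hcop ?_)
    rw [← Subgroup.index_ker] at h
    exact h.trans (Subgroup.index_dvd_of_le hle)
  have hinv : ∀ L : Subgroup G, L.Normal → ∀ x ∈ φ.range, ∀ a ∈ L.subgroupOf M, x a ∈ L.subgroupOf M := by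
    rintro L hL x ⟨g, rfl⟩ a ha
    exact hL.conj_mem _ ha g
  obtain ⟨D, -, hDi, hD1, hD2⟩ := Coprime.exists_invariant_compl_elementary φ.range hX
    (C := (⊥ : Subgroup G).subgroupOf M) (S := N.subgroupOf M) (T := ⊤)
    (fun a ha => Subgroup.mem_subgroupOf.2 (by
      rw [Subgroup.mem_bot.1 (Subgroup.mem_subgroupOf.1 ha)]
      exact N.one_mem))
    le_top (fun a _ => Subgroup.mem_subgroupOf.2 (Subgroup.mem_bot.2 (by
      rw [Subgroup.coe_pow]; exact hexp a a.2)))
    (hinv ⊥ inferInstance) (hinv N inferInstance) (fun _ _ _ _ => Subgroup.mem_top _)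
  rw [Subgroup.bot_subgroupOf] at hD1
  refine ⟨D.map M.subtype, ⟨?_⟩, Subgroup.map_subtype_le _, ?_, ?_, ?_⟩
  · rintro _ ⟨a, ha, rfl⟩ g
    exact ⟨φ g a, hDi _ ⟨g, rfl⟩ a ha, rfl⟩
  · refine eq_bot_iff.2 fun x hx => ?_
    obtain ⟨⟨a, ha, rfl⟩, hxN⟩ := hx
    have h : a ∈ D ⊓ N.subgroupOf M := ⟨ha, hxN⟩
    rw [hD1, Subgroup.mem_bot] at h
    rw [Subgroup.mem_bot, h, map_one]
  · have h := congrArg (Subgroup.map M.subtype) hD2
    rwa [Subgroup.map_sup, Subgroup.map_subgroupOf_eq_of_le hNM, ← MonoidHom.range_eq_map,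
      Subgroup.range_subtype] at h
  · rw [Subgroup.card_map_of_injective M.subtype_injective,
      ← Nat.card_congr (Subgroup.subgroupOfEquivOfLe hNM).toEquiv]
    exact (Subgroup.isComplement'_of_disjoint_and_mul_eq_univ (disjoint_iff.2 hD1) (by
      rw [← Subgroup.normal_mul, hD2, Subgroup.coe_top])).card_mul_card

/-- Over a normal `p`-subgroup that is not its own centraliser. -/
theorem exists_succ (hp : p.Prime) (hsol : Group.IsSolvable G)
    (hL : ∀ L : Subgroup G, L.Normal → L ≠ ⊥ → p ∣ Nat.card L)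
    (hq : ∀ L : Subgroup G, L.Normal → L ≠ ⊥ → ¬ p ^ 2 ∣ L.index)
    {N : Subgroup G} [N.Normal] (hN0 : N ≠ ⊥) {m : ℕ} (hN : Nat.card N = p ^ m)
    (hNc : ∀ a ∈ N, ∀ b ∈ N, a * b = b * a) (hne : Subgroup.centralizer (N : Set G) ≠ N) :
    ∃ M : Subgroup G, M.Normal ∧ N ≤ M ∧ (∀ a ∈ M, ∀ b ∈ M, a * b = b * a) ∧
      Nat.card M = p ^ (m + 1) ∧ ¬ p ∣ M.index := by
  classical
  haveI := hsol
  haveI := Fact.mk hp
  set C := Subgroup.centralizer (N : Set G) with hC
  have hNC : N ≤ C := fun a ha b hb => hNc b hb a ha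
  let π := QuotientGroup.mk' N
  haveI : (C.map π).Normal := Subgroup.Normal.map inferInstance π (QuotientGroup.mk'_surjective N)
  have hCbot : C.map π ≠ ⊥ := fun h => hne (le_antisymm (fun c hc => by
    have : π c ∈ C.map π := ⟨c, hc, rfl⟩
    rw [h, Subgroup.mem_bot] at this
    exact (QuotientGroup.eq_one_iff c).1 this) hNC)
  obtain ⟨M', r, hM'n, hM'C, hM'0, -, -, hr, hM'r⟩ := Solvable.exists_abelian_minimal_normal
    (K := C.map π) (inferInstance : Group.IsSolvable _) hCbot
  haveI := hM'n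
  set M := M'.comap π with hMdef
  haveI : M.Normal := hM'n.comap π
  have hNM : N ≤ M := fun a ha => by
    show π a ∈ M'
    rw [show π a = 1 from (QuotientGroup.eq_one_iff a).2 ha]
    exact M'.one_mem
  have hMC : M ≤ C := fun a ha => by
    obtain ⟨c, hc, hca⟩ := hM'C ha
    have h1 : c⁻¹ * a ∈ N := QuotientGroup.eq.1 hca
    have := C.mul_mem hc (hNC h1)
    rwa [mul_inv_cancel_left] at this
  have hidx : (N.subgroupOf M).index = Nat.card M' := by
    have h1 : Nat.card M = Nat.card M' * Nat.card N := by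
      have := Subgroup.card_eq_card_quotient_mul_card_subgroup (N.subgroupOf M)
      rw [Nat.card_congr (Subgroup.subgroupOfEquivOfLe hNM).toEquiv] at this
      rw [this]
      congr 1
      refine Nat.card_eq_of_bijective (Quotient.lift (fun a : M => (⟨π a, a.2⟩ : M')) fun a b hab =>
        Subtype.ext ((QuotientGroup.eq).2 (Subgroup.mem_subgroupOf.1 (QuotientGroup.leftRel_apply.1 hab))))
        ⟨?_, ?_⟩
      · intro a b
        induction a using QuotientGroup.induction_on with | _ a => ?_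
        induction b using QuotientGroup.induction_on with | _ b => ?_
        intro hab
        exact QuotientGroup.eq.2 (Subgroup.mem_subgroupOf.2 (QuotientGroup.eq.1 (congrArg Subtype.val hab)))
      · rintro ⟨y, hy⟩
        obtain ⟨a, rfl⟩ := QuotientGroup.mk'_surjective N y
        exact ⟨QuotientGroup.mk (⟨a, hy⟩ : M), rfl⟩
    have h2 := (N.subgroupOf M).index_mul_card
    rw [Nat.card_congr (Subgroup.subgroupOfEquivOfLe hNM).toEquiv, h1] at h2
    exact Nat.eq_of_mul_eq_mul_right Nat.card_pos h2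
  have hcen : ∀ h ∈ M, ∀ x ∈ N, h * x = x * h := fun h hh x hx => (hMC hh x hx).symm
  haveI := Fact.mk hr
  obtain ⟨j, hj⟩ := (IsPGroup.iff_card (p := r) (G := M')).1 hM'r
  have hj0 : j ≠ 0 := fun h => hM'0 (by
    rw [h, pow_zero] at hj
    exact Subgroup.card_eq_one.1 hj)
  have hrp : r = p := by
    by_contra hrp
    have hMN := eq_of_central hp hL hNM hcen hN (by
      rw [hidx, hj]
      exact fun h => hrp ((Nat.prime_dvd_prime_iff_eq hp hr).1 (hp.dvd_of_dvd_pow h)).symm)
    rw [show (N.subgroupOf M).index = 1 from Subgroup.relIndex_eq_one.2 hMN.le, hj] at hidx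
    exact (Nat.one_lt_pow hj0 hr.one_lt).ne hidx
  subst hrp
  have hMcard : Nat.card M = r ^ (j + m) := by
    rw [← (N.subgroupOf M).index_mul_card, hidx, hj,
      Nat.card_congr (Subgroup.subgroupOfEquivOfLe hNM).toEquiv, hN, pow_add]
  have hj1 : j = 1 := by
    by_contra hj1
    apply hq N inferInstance hN0
    refine (Nat.pow_dvd_pow r (show 2 ≤ j by omega)).trans ?_
    rw [← hj, ← hidx]
    exact Subgroup.relIndex_dvd_index_of_normal N M
  have hMidx : ¬ r ∣ M.index := by
    intro h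
    refine hq N inferInstance hN0 ?_
    rw [← Subgroup.relIndex_mul_index hNM, show N.relIndex M = r ^ j from hidx.trans hj, hj1, pow_one,
      pow_two]
    exact Nat.mul_dvd_mul_left r h
  refine ⟨M, inferInstance, hNM, ?_, by rw [hMcard, hj1, add_comm], hMidx⟩
  -- cyclic over a central subgroup
  haveI : IsCyclic (↥M ⧸ N.subgroupOf M) := isCyclic_of_prime_card (p := r) (by
    rw [← Subgroup.index_eq_card, hidx, hj, hj1, pow_one])
  have hker : (QuotientGroup.mk' (N.subgroupOf M)).ker ≤ Subgroup.center M := fun x hx => by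
    rw [QuotientGroup.ker_mk'] at hx
    exact Subgroup.mem_center_iff.2 fun y => Subtype.ext (hcen y y.2 x (Subgroup.mem_subgroupOf.1 hx))
  intro a ha b hb
  exact congrArg Subtype.val (commutative_of_cyclic_center_quotient _ hker (⟨a, ha⟩ : M) ⟨b, hb⟩)

/-- Conjugations commute on a normal cyclic subgroup. -/
theorem conj_comm_of_cyclic {N : Subgroup G} [N.Normal] {n : G} (hn : n ∈ N)
    (hgen : ∀ x ∈ N, ∃ k : ℤ, x = n ^ k) (g h : G) {x : G} (hx : x ∈ N) :
    g * h * x * (g * h)⁻¹ = h * g * x * (h * g)⁻¹ := by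
  obtain ⟨k, rfl⟩ := hgen x hx
  obtain ⟨a, ha⟩ := hgen _ ((inferInstance : N.Normal).conj_mem n hn g)
  obtain ⟨b, hb⟩ := hgen _ ((inferInstance : N.Normal).conj_mem n hn h)
  have e : ∀ (g h : G) (a b : ℤ), g * n * g⁻¹ = n ^ a → h * n * h⁻¹ = n ^ b →
      g * h * n ^ k * (g * h)⁻¹ = n ^ (a * (b * k)) := by
    intro g h a b ha hb
    calc g * h * n ^ k * (g * h)⁻¹ = g * (h * n * h⁻¹) ^ k * g⁻¹ := by rw [conj_zpow]; group
      _ = g * n ^ (b * k) * g⁻¹ := by rw [hb, ← zpow_mul]
      _ = (g * n * g⁻¹) ^ (b * k) := by rw [conj_zpow]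
      _ = _ := by rw [ha, ← zpow_mul]
  rw [e g h a b ha hb, e h g b a hb ha, mul_left_comm]

/-- Over an abelian normal `p`-subgroup of order `p^n`, `n ≥ 2`. -/
theorem finish (hp : p.Prime) (V : Subgroup G) [V.Normal] (hV : ∀ a ∈ V, ∀ b ∈ V, a * b = b * a)
    {n : ℕ} (hn : 2 ≤ n) (hcard : Nat.card V = p ^ n) (hgood : 11 ≤ p → Good (G ⧸ V) p n) :
    49 * p ≤ 60 * Nat.card (ConjClasses G) := by
  obtain ⟨r, hr, hk⟩ := exists_orbit_bound V hV
  rw [hcard, Subgroup.index_eq_card] at hr
  suffices 49 * p ≤ 60 * (Nat.card (ConjClasses (G ⧸ V)) + r) by omega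
  by_cases h11 : 11 ≤ p
  · exact (hgood h11).2 hn r hr
  have hsq : p * p ≤ p ^ n := by
    rw [← pow_two]
    exact Nat.pow_le_pow_right hp.pos hn
  have hpos := conjClasses_pos (G := G ⧸ V)
  have h2 := hp.two_le
  have hr0 : 1 ≤ r := by
    by_contra h
    obtain rfl : r = 0 := by omega
    have := Nat.mul_le_mul h2 h2
    omega
  rcases Nat.lt_or_ge (Nat.card (ConjClasses (G ⧸ V))) 4 with h3 | h3
  · have := Nat.mul_le_mul_left r (card_le_six_of_classes (G := G ⧸ V) (by omega))
    interval_cases p <;> first | omega | norm_num at hp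
  rcases Nat.lt_or_ge (Nat.card (ConjClasses (G ⧸ V))) 5 with h4 | h4
  · have := Nat.mul_le_mul_left r (card_le_of_classes_four (G := G ⧸ V) (by omega))
    interval_cases p <;> first | omega | norm_num at hp
  interval_cases p <;> first | omega | norm_num at hp

/-- The faithful irreducible quotient over a self-centralising minimal normal subgroup. -/
theorem good_of_minimal (hp : p.Prime) (h11 : 11 ≤ p) (hsol : Group.IsSolvable G) (N : Subgroup G)
    [N.Normal] {n : ℕ} (hn : 0 < n) (hN : Nat.card N = p ^ n)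
    (hNc : ∀ a ∈ N, ∀ b ∈ N, a * b = b * a) (hC : Subgroup.centralizer (N : Set G) = N)
    (hmin : ∀ M : Subgroup G, M.Normal → M ≤ N → M = ⊥ ∨ M = N) : Good (G ⧸ N) p n := by
  classical
  haveI := hsol
  letI : CommGroup N :=
    { (inferInstance : Group N) with mul_comm := fun a b => Subtype.ext (hNc a a.2 b b.2) }
  let φ : G →* MulAut N := MulAut.conjNormal
  have hker : φ.ker = N := by
    ext g
    rw [MonoidHom.mem_ker]
    refine ⟨fun h => ?_, fun h => MulEquiv.ext fun x => Subtype.ext ?_⟩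
    · rw [← hC]
      intro x hx
      have h1 : g * x * g⁻¹ = x := congrArg Subtype.val (DFunLike.congr_fun h (⟨x, hx⟩ : N))
      exact (mul_inv_eq_iff_eq_mul.1 h1).symm
    · show g * x * g⁻¹ = (x : G)
      rw [hNc g h x x.2, mul_inv_cancel_right]
  let ψ : G ⧸ N →* MulAut N := QuotientGroup.lift N φ hker.ge
  letI : DistribMulAction (G ⧸ N) (Additive N) :=
    { smul := fun q a => Additive.ofMul (ψ q a.toMul)
      one_smul := fun a => by show Additive.ofMul (ψ 1 a.toMul) = a; rw [map_one]; rfl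
      mul_smul := fun q q' a => by
        show Additive.ofMul (ψ (q * q') a.toMul) = Additive.ofMul (ψ q (ψ q' a.toMul))
        rw [map_mul]; rfl
      smul_zero := fun q => by
        show Additive.ofMul (ψ q 1) = Additive.ofMul (1 : N)
        rw [map_one]
      smul_add := fun q a b => by
        show Additive.ofMul (ψ q (a.toMul * b.toMul)) =
          Additive.ofMul (ψ q a.toMul * ψ q b.toMul)
        rw [map_mul] }
  haveI : FaithfulSMul (G ⧸ N) (Additive N) := ⟨fun {q q'} h => by
    obtain ⟨g, rfl⟩ := QuotientGroup.mk'_surjective N q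
    obtain ⟨g', rfl⟩ := QuotientGroup.mk'_surjective N q'
    refine QuotientGroup.eq.2 ?_
    rw [← hker, MonoidHom.mem_ker, map_mul, map_inv, inv_mul_eq_one]
    exact MulEquiv.ext fun x => congrArg Additive.toMul (h (Additive.ofMul x))⟩
  haveI : Finite (Additive N) := inferInstanceAs (Finite N)
  haveI : Nontrivial (Additive N) := by
    rw [← Finite.one_lt_card_iff_nontrivial]
    show 1 < Nat.card N
    rw [hN]
    exact Nat.one_lt_pow hn.ne' hp.one_lt
  refine irreducible_good hp h11 n (G ⧸ N) (Additive N) inferInstance (fun U hU => ?_) hN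
  let L : Subgroup G := (AddSubgroup.toSubgroup' U).map N.subtype
  have hLn : L.Normal := ⟨by
    rintro _ ⟨x, hx, rfl⟩ g
    exact ⟨φ g x, hU (QuotientGroup.mk g) _ hx, rfl⟩⟩
  have hmemL : ∀ a : Additive N, ((a.toMul : N) : G) ∈ L → a ∈ U := by
    rintro a ⟨x, hx, hxa⟩
    rw [show a = Additive.ofMul x from congrArg Additive.ofMul (Subtype.ext hxa).symm]
    exact hx
  rcases hmin L hLn (Subgroup.map_subtype_le _) with h | h
  · left
    refine eq_bot_iff.2 fun a ha => AddSubgroup.mem_bot.2 ?_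
    have h1 : ((a.toMul : N) : G) ∈ L := ⟨a.toMul, ha, rfl⟩
    rw [h, Subgroup.mem_bot] at h1
    exact congrArg Additive.ofMul (Subtype.ext h1 : a.toMul = 1)
  · right
    exact eq_top_iff.2 fun a _ => hmemL a (h.symm ▸ a.toMul.2)

theorem class_number_bound_aux (hp : p.Prime) : ∀ (c : ℕ) (G : Type u) [Group G] [Finite G],
    Nat.card G = c → Group.IsSolvable G → p ^ 2 ∣ Nat.card G →
    49 * p ≤ 60 * Nat.card (ConjClasses G) := by
  intro c
  induction c using Nat.strong_induction_on with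
  | _ c ih =>
  intro G _ _ hc hsol hp2
  classical
  haveI := hsol
  haveI := Fact.mk hp
  by_cases hquot : ∃ L : Subgroup G, L.Normal ∧ L ≠ ⊥ ∧ p ^ 2 ∣ L.index
  · obtain ⟨L, hLn, hL0, hLp⟩ := hquot
    haveI := hLn
    rw [Subgroup.index_eq_card] at hLp
    have hlt : Nat.card (G ⧸ L) < c := by
      rw [← hc, Subgroup.card_eq_card_quotient_mul_card_subgroup L]
      exact lt_mul_of_one_lt_right Nat.card_pos ((Subgroup.one_lt_card_iff_ne_bot L).2 hL0)
    exact (ih _ hlt (G ⧸ L) rfl inferInstance hLp).trans (Nat.mul_le_mul_left _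
      (Nat.card_le_card_of_surjective _ (ConjClasses.map_surjective (QuotientGroup.mk'_surjective L))))
  push Not at hquot
  have hL : ∀ L : Subgroup G, L.Normal → L ≠ ⊥ → p ∣ Nat.card L := fun L hLn hL0 => by
    by_contra h
    refine hquot L hLn hL0 ?_
    rw [← L.index_mul_card] at hp2
    exact (Nat.Coprime.pow_left 2 (hp.coprime_iff_not_dvd.2 h)).dvd_of_dvd_mul_right hp2
  have htop : (⊤ : Subgroup G) ≠ ⊥ := by
    rw [← Subgroup.one_lt_card_iff_ne_bot, Subgroup.card_top]
    calc 1 < p ^ 2 := Nat.one_lt_pow (by norm_num) hp.one_lt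
      _ ≤ Nat.card G := Nat.le_of_dvd Nat.card_pos hp2
  obtain ⟨N, r, hNn, -, hN0, hmin, hNc', hr, hNr⟩ :=
    Solvable.exists_abelian_minimal_normal (K := (⊤ : Subgroup G)) inferInstance htop
  haveI := hNn
  haveI := hNc'
  have hNc : ∀ a ∈ N, ∀ b ∈ N, a * b = b * a := fun a ha b hb =>
    congrArg Subtype.val (mul_comm' (⟨a, ha⟩ : N) ⟨b, hb⟩)
  haveI := Fact.mk hr
  obtain ⟨m, hm⟩ := (IsPGroup.iff_card (p := r) (G := N)).1 hNr
  have hrp : r = p :=
    ((Nat.prime_dvd_prime_iff_eq hp hr).1 (hp.dvd_of_dvd_pow (hm ▸ hL N hNn hN0))).symm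
  subst hrp
  have hm0 : 0 < m := Nat.pos_of_ne_zero fun h => hN0 (by
    rw [h, pow_zero] at hm
    exact Subgroup.card_eq_one.1 hm)
  by_cases hC : Subgroup.centralizer (N : Set G) = N
  · by_cases hm2 : 2 ≤ m
    · exact finish hp N hNc hm2 hm fun h11 => good_of_minimal hp h11 hsol N hm0 hm hNc hC hmin
    · exfalso
      obtain rfl : m = 1 := by omega
      rw [pow_one] at hm
      haveI : IsCyclic N := isCyclic_of_prime_card hm
      let φ : G →* MulAut N := MulAut.conjNormal
      have hle : φ.ker ≤ N := fun g hg => hC.le fun x hx => by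
        have h1 : g * x * g⁻¹ = x := congrArg Subtype.val
          (DFunLike.congr_fun (MonoidHom.mem_ker.1 hg) (⟨x, hx⟩ : N))
        exact (mul_inv_eq_iff_eq_mul.1 h1).symm
      have h1 : N.index ∣ r - 1 := by
        refine (Subgroup.index_dvd_of_le hle).trans ?_
        rw [Subgroup.index_ker]
        have := Subgroup.card_subgroup_dvd_card φ.range
        rwa [IsCyclic.card_mulAut, hm, Nat.totient_prime hp] at this
      have h2 : r ∣ N.index := by
        rw [pow_two, ← N.index_mul_card, hm] at hp2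
        exact Nat.dvd_of_mul_dvd_mul_right hp.pos hp2
      have := hp.two_le
      have := Nat.le_of_dvd (by omega) (h2.trans h1)
      omega
  obtain ⟨M, hMn, hNM, hMc, hMcard, hMidx⟩ :=
    exists_succ hp hsol hL (fun L h1 h2 => hquot L h1 h2) hN0 hm hNc hC
  haveI := hMn
  letI : CommGroup M :=
    { (inferInstance : Group M) with mul_comm := fun a b => Subtype.ext (hMc a a.2 b b.2) }
  by_cases hm2 : 2 ≤ m
  · exfalso
    -- the `r`th powers
    have hNexp : ∀ a ∈ N, a ^ r = 1 := by
      obtain ⟨s, hs, hall, hsN⟩ := Solvable.exists_prime_of_minimal hN0 hmin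
      intro a ha
      have hsr : s = r := by
        by_contra hne
        haveI := Fact.mk hs
        obtain ⟨t, ht⟩ := (IsPGroup.iff_card (p := s) (G := N)).1 hsN
        have h1 : r ∣ s ^ t := ht ▸ hm ▸ dvd_pow_self r hm0.ne'
        exact hne ((Nat.prime_dvd_prime_iff_eq hp hs).1 (hp.dvd_of_dvd_pow h1)).symm
      exact hsr ▸ hall a ha
    have hrelM : (N.subgroupOf M).index = r := by
      have h1 := (N.subgroupOf M).index_mul_card
      rw [Nat.card_congr (Subgroup.subgroupOfEquivOfLe hNM).toEquiv, hm, hMcard, pow_succ',] at h1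
      exact Nat.eq_of_mul_eq_mul_right (Nat.pow_pos hp.pos) h1
    let f : M →* M := powMonoidHom r
    let R : Subgroup G := f.range.map M.subtype
    have hRn : R.Normal := ⟨by
      rintro _ ⟨_, ⟨x, rfl⟩, rfl⟩ g
      refine ⟨_, ⟨MulAut.conjNormal g x, rfl⟩, ?_⟩
      show ((MulAut.conjNormal g x ^ r : M) : G) = g * ((x ^ r : M) : G) * g⁻¹
      rw [Subgroup.coe_pow, Subgroup.coe_pow, MulAut.conjNormal_apply, conj_pow]⟩
    have hRN : R ≤ N := by
      rintro _ ⟨_, ⟨x, rfl⟩, rfl⟩
      have h1 : x ^ (N.subgroupOf M).index ∈ N.subgroupOf M := Subgroup.pow_index_mem _ x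
      rw [hrelM] at h1
      exact Subgroup.mem_subgroupOf.1 h1
    have hRcard : Nat.card R ≤ r := by
      rw [Subgroup.card_map_of_injective M.subtype_injective, ← Subgroup.index_ker, ← hrelM]
      refine Nat.le_of_dvd (Nat.pos_of_ne_zero Subgroup.index_ne_zero_of_finite)
        (Subgroup.index_dvd_of_le fun x hx => ?_)
      exact Subtype.ext (hNexp x hx)
    have hRbot : R = ⊥ := (hmin R hRn hRN).resolve_right fun h => by
      rw [h, hm] at hRcard
      have := Nat.pow_le_pow_right hp.pos hm2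
      nlinarith [hp.two_le]
    have hMexp : ∀ a ∈ M, a ^ r = 1 := fun a ha => by
      have h1 : ((f ⟨a, ha⟩ : M) : G) ∈ R := ⟨_, ⟨⟨a, ha⟩, rfl⟩, rfl⟩
      rw [hRbot, Subgroup.mem_bot] at h1
      exact h1
    obtain ⟨D, hDn, hDM, hDN, -, hDc⟩ := exists_compl_normal M hMc hMexp hMidx N hNM
    rw [hm, hMcard, pow_succ'] at hDc
    have hD : Nat.card D = r := Nat.eq_of_mul_eq_mul_right (Nat.pow_pos hp.pos) hDc
    refine hquot D hDn (fun h => hp.ne_one (by rw [← hD, h, Subgroup.card_bot])) ?_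
    have h1 := D.index_mul_card
    rw [hD, ← M.index_mul_card, hMcard, pow_succ, ← mul_assoc] at h1
    rw [Nat.eq_of_mul_eq_mul_right hp.pos h1]
    exact dvd_mul_of_dvd_right (Nat.pow_dvd_pow r hm2) _
  · obtain rfl : m = 1 := by omega
    norm_num at hMcard
    refine finish hp M hMc le_rfl hMcard fun h11 => ?_
    -- `M` is its own centraliser
    have hMC : M ≤ Subgroup.centralizer (M : Set G) := fun a ha b hb => hMc b hb a ha
    have hCM : Subgroup.centralizer (M : Set G) = M :=
      eq_of_central hp hL hMC (fun h hh x hx => (hh x hx).symm) hMcard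
        fun h => hMidx (h.trans (Subgroup.relIndex_dvd_index_of_normal M _))
    have hcomm : ∀ g h : G, (h * g)⁻¹ * (g * h) ∈ M := by
      intro g h
      have key : ∀ x ∈ M, g * h * x * (g * h)⁻¹ = h * g * x * (h * g)⁻¹ := by
        by_cases hcyc : ∃ x ∈ M, orderOf x = r ^ 2
        · obtain ⟨x, hx, hxo⟩ := hcyc
          have htop : Subgroup.zpowers x = M := Subgroup.eq_of_le_of_card_ge
            (Subgroup.zpowers_le.2 hx) (by rw [Nat.card_zpowers, hxo, hMcard])
          intro y hy
          exact conj_comm_of_cyclic hx (fun z hz => by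
            rw [← htop] at hz
            obtain ⟨k, rfl⟩ := hz
            exact ⟨k, rfl⟩) g h hy
        push Not at hcyc
        have hMexp : ∀ a ∈ M, a ^ r = 1 := fun a ha => by
          have h1 : orderOf a ∣ r ^ 2 := hMcard ▸ Subgroup.orderOf_dvd_natCard _ ha
          obtain ⟨i, hi, hi'⟩ := (Nat.dvd_prime_pow hp).1 h1
          refine orderOf_dvd_iff_pow_eq_one.1 (hi' ▸ ?_)
          rcases Nat.lt_or_ge i 2 with h2 | h2
          · calc r ^ i ∣ r ^ 1 := Nat.pow_dvd_pow r (by omega)
              _ = r := pow_one r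
          · exact absurd (by rw [hi', show i = 2 by omega]) (hcyc a ha)
        obtain ⟨D, hDn, hDM, hDN, hsup, hDc⟩ := exists_compl_normal M hMc hMexp hMidx N hNM
        haveI := hDn
        have hgen : ∀ (L : Subgroup G), Nat.card L = r → ∃ n ∈ L, ∀ x ∈ L, ∃ k : ℤ, x = n ^ k := by
          intro L hLr
          haveI : IsCyclic L := isCyclic_of_prime_card hLr
          obtain ⟨⟨n, hn⟩, hgen⟩ := IsCyclic.exists_generator (α := L)
          refine ⟨n, hn, fun x hx => ?_⟩
          obtain ⟨k, hk⟩ := Subgroup.mem_zpowers_iff.1 (hgen ⟨x, hx⟩)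
          exact ⟨k, (congrArg Subtype.val hk).symm⟩
        rw [hm, hMcard, pow_one, pow_two] at hDc
        obtain ⟨d, hd, hdgen⟩ := hgen D (Nat.eq_of_mul_eq_mul_right hp.pos hDc)
        obtain ⟨n, hn, hngen⟩ := hgen N (hm.trans (pow_one r))
        intro x hx
        obtain ⟨y, hy, z, hz, rfl⟩ := Subgroup.mem_sup_of_normal_left.1 (hsup.symm ▸ hx : x ∈ D ⊔ N)
        rw [show g * h * (y * z) * (g * h)⁻¹ = (g * h * y * (g * h)⁻¹) * (g * h * z * (g * h)⁻¹) by group,
          conj_comm_of_cyclic hd hdgen g h hy, conj_comm_of_cyclic hn hngen g h hz]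
        group
      rw [← hCM]
      intro x hx
      have h1 := key x hx
      revert h1
      generalize g * h = a
      generalize h * g = b
      intro h1
      calc x * (b⁻¹ * a) = b⁻¹ * (b * x * b⁻¹) * a := by group
        _ = b⁻¹ * (a * x * a⁻¹) * a := by rw [h1]
        _ = b⁻¹ * a * x := by group
    refine good_of_ratio (by omega) (rhoLE_one_of_comm fun a b => ?_)
      (Nat.one_le_pow _ _ hp.pos) (fun _ => by norm_num)
    obtain ⟨g, rfl⟩ := QuotientGroup.mk'_surjective M a
    obtain ⟨h, rfl⟩ := QuotientGroup.mk'_surjective M b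
    rw [← map_mul, ← map_mul]
    exact (QuotientGroup.eq.2 (hcomm g h)).symm

/-- A solvable group of order divisible by `p²` has at least `49 p / 60` classes. -/
theorem class_number_bound (hp : p.Prime) (hsol : Group.IsSolvable G) (hp2 : p ^ 2 ∣ Nat.card G) :
    49 * p ≤ 60 * Nat.card (ConjClasses G) :=
  class_number_bound_aux hp _ G rfl hsol hp2

end Cfsg.Agent.SolvClassBound
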