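import Cfsg.Agent.Lib.SolvClassBound.Prim
import Cfsg.Agent.Lib.SolvClassBound.Decomp
import Cfsg.Agent.Lib.SolvClassBound.Perm

/-!
# Small sections

* `card_range_le_small`: completely reducible solvable groups on `2^j` elements, `j ≤ 4`.
* `card_aut_le_coprime`: automorphisms of an abelian group of order 36.
-/

set_option autoImplicit false
set_option linter.style.haveILetI false

namespace Cfsg.Agent.SolvClassBound

open OddBaseTwo SolvableTransitive

universe u v

/-- The bounds on `2^j` elements. -/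
def smallB : ℕ → ℕ
  | 2 => 6
  | 3 => 21
  | 4 => 72
  | _ => 1

theorem smallB_mul {i k : ℕ} (h : i + k ≤ 4) (hi : 0 < i) (hk : 0 < k) :
    smallB i * smallB k ≤ smallB (i + k) := by
  have : i ≤ 3 := by omega
  have : k ≤ 3 := by omega
  interval_cases i <;> interval_cases k <;> first | omega | decide

theorem small_prim {A : Type u} [Group A] [Finite A] {V : Type v} [AddCommGroup V]
    [Finite V] [Nontrivial V] [DistribMulAction A V] [FaithfulSMul A V] (hsol : Group.IsSolvable A)
    {j : ℕ} (hj : j ≤ 4) (hV : Nat.card V = 2 ^ j)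
    (hfield : ∀ Z : Subgroup A, Z.Normal → IsMulCommutative ↥Z → IsField ↥(spanRing V Z)) :
    Nat.card A ≤ smallB j := by
  obtain ⟨K, _, _, _, P, a, m, hK, hn, ha, hm, hidx, hfr⟩ :=
    exists_primData hsol Nat.prime_two hV hfield
  obtain ⟨d, hd⟩ := P.isSquare_W
  have hd0 : 0 < d := Nat.pos_of_ne_zero fun h => Nat.card_pos.ne' (hd.trans (by rw [h, mul_zero]))
  have hdm : d ≤ m := by
    have := P.card_W_le
    rw [hd, hfr] at this
    exact Nat.mul_self_le_mul_self_iff.1 this
  have hW : Nat.card P.W = 1 := by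
    by_contra hne
    obtain ⟨r, hr, hrd⟩ := Nat.exists_prime_and_dvd (show d ≠ 1 from fun h => hne (by rw [hd, h]))
    have h1 : r ∣ Nat.card K - 1 := P.dvd_W hr (hd ▸ dvd_mul_of_dvd_left hrd d)
    have h2 : r ≤ m := (Nat.le_of_dvd hd0 hrd).trans hdm
    have h3 := hr.two_le
    have ha2 : a ≤ 2 := by nlinarith
    rw [hK] at h1
    interval_cases a
    · exact hr.one_lt.ne' (Nat.dvd_one.1 h1)
    · have : m ≤ 2 := by omega
      have h4 : r = 3 := (Nat.prime_dvd_prime_iff_eq hr (by norm_num)).1 (by simpa using h1)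
      omega
  have hZ : Nat.card P.Z ≤ 2 ^ a - 1 := by
    rw [← hK]
    refine (Nat.card_le_card_of_injective P.χ P.χ_injective).trans ?_
    rw [Nat.card_units]
  rw [card_A P, autC_of_W_one P hW, hW, one_mul, one_mul]
  refine (Nat.mul_le_mul hidx hZ).trans ?_
  have : m ≤ 4 := le_trans (by rw [hn]; exact Nat.le_mul_of_pos_left m ha) hj
  have : a ≤ 4 := le_trans (by rw [hn]; exact Nat.le_mul_of_pos_right a hm) hj
  subst hn
  interval_cases a <;> interval_cases m <;> first | omega | decide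

/-- Completely reducible solvable groups on `2^j` elements, `j ≤ 4`. -/
theorem card_range_le_small : ∀ j : ℕ, j ≤ 4 → ∀ (A : Type u) [Group A] [Finite A] (V : Type v)
    [AddCommGroup V] [Finite V] [DistribMulAction A V], Group.IsSolvable A → IsCR A V →
    Nat.card V = 2 ^ j → Nat.card (MulAction.toPermHom A V).range ≤ smallB j := by
  intro j
  induction j using Nat.strong_induction_on with
  | _ j ih =>
  intro hj A _ _ V _ _ _ hsol hcr hV
  classical
  rcases Nat.eq_zero_or_pos j with rfl | hjpos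
  · rw [pow_zero] at hV
    haveI := (Nat.card_eq_one_iff_unique.1 hV).1
    exact (Finite.card_le_one_iff_subsingleton.2
      ⟨fun a b => Subtype.ext (Equiv.ext fun x => Subsingleton.elim _ _)⟩)
  by_cases hirr : IsIrr A V
  swap
  · -- the reducible case
    unfold IsIrr at hirr
    push Not at hirr
    obtain ⟨U, hU, hU0, hUt⟩ := hirr
    obtain ⟨W, hW, h1, h2⟩ := hcr U hU
    have hcard : Nat.card U * Nat.card W = Nat.card V := by
      rw [← Nat.card_prod]
      refine Nat.card_eq_of_bijective (fun x : U × W => (x.1 : V) + x.2) ⟨fun x y h => ?_, fun x => ?_⟩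
      · obtain ⟨e1, e2⟩ := decomp_unique h1 x.1.2 x.2.2 y.1.2 y.2.2 h
        exact Prod.ext (Subtype.ext e1) (Subtype.ext e2)
      · obtain ⟨y, hy, z, hz, rfl⟩ := exists_add_of_sup_eq_top h2 x
        exact ⟨(⟨y, hy⟩, ⟨z, hz⟩), rfl⟩
    obtain ⟨i, -, hi⟩ := (Nat.dvd_prime_pow Nat.prime_two).1 (Dvd.intro _ (hcard.trans hV) :
      Nat.card U ∣ 2 ^ j)
    obtain ⟨k, -, hk⟩ := (Nat.dvd_prime_pow Nat.prime_two).1 (Dvd.intro_left _ (hcard.trans hV) :
      Nat.card W ∣ 2 ^ j)
    have hik : i + k = j := Nat.pow_right_injective (le_refl 2) (by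
      show 2 ^ (i + k) = 2 ^ j
      rw [pow_add, ← hi, ← hk, hcard, hV])
    have hi0 : 0 < i := Nat.pos_of_ne_zero fun h => hU0 (by
      rw [h, pow_zero] at hi
      exact AddSubgroup.card_eq_one.1 hi)
    have hk0 : 0 < k := Nat.pos_of_ne_zero fun h => hUt (by
      rw [h, pow_zero] at hk
      rw [AddSubgroup.card_eq_one.1 hk, sup_bot_eq] at h2
      exact h2)
    letI := subAction U hU
    letI := subAction W hW
    have e1 := ih i (by omega) (by omega) A U hsol (isCR_subAction hcr hU) hi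
    have e2 := ih k (by omega) (by omega) A W hsol (isCR_subAction hcr hW) hk
    refine le_trans ?_ ((Nat.mul_le_mul e1 e2).trans ((smallB_mul (by omega) hi0 hk0).trans_eq (by rw [hik])))
    rw [← Subgroup.index_ker, ← Subgroup.index_ker, ← Subgroup.index_ker]
    refine le_trans ?_ Subgroup.index_inf_le
    refine Nat.le_of_dvd (Nat.pos_of_ne_zero Subgroup.index_ne_zero_of_finite)
      (Subgroup.index_dvd_of_le fun a ha => ?_)
    obtain ⟨ha1, ha2⟩ := Subgroup.mem_inf.1 ha
    refine MonoidHom.mem_ker.2 (Equiv.ext fun x => ?_)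
    obtain ⟨y, hy, z, hz, rfl⟩ := exists_add_of_sup_eq_top h2 x
    show a • (y + z) = y + z
    rw [smul_add, show a • y = y from
        congrArg Subtype.val (Equiv.congr_fun (MonoidHom.mem_ker.1 ha1) ⟨y, hy⟩),
      show a • z = z from congrArg Subtype.val (Equiv.congr_fun (MonoidHom.mem_ker.1 ha2) ⟨z, hz⟩)]
  -- irreducible: pass to the faithful group
  haveI : Nontrivial V := by
    rw [← Finite.one_lt_card_iff_nontrivial, hV]
    exact Nat.one_lt_two_pow hjpos.ne'
  letI := rangeAction A V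
  haveI := hsol
  haveI : FaithfulSMul (MulAction.toPermHom A V).range V :=
    ⟨fun {a b} h => Subtype.ext (Equiv.ext fun x => h x)⟩
  have hBsol : Group.IsSolvable (MulAction.toPermHom A V).range :=
    Group.isSolvable_of_surjective (MulAction.toPermHom A V).rangeRestrict_surjective
  have hBirr : IsIrr (MulAction.toPermHom A V).range V := fun U hU =>
    hirr U fun a z hz => hU ((MulAction.toPermHom A V).rangeRestrict a) z hz
  by_cases hfield : ∀ Z : Subgroup (MulAction.toPermHom A V).range, Z.Normal → IsMulCommutative ↥Z → IsField ↥(spanRing V Z)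
  · exact small_prim hBsol hj hV hfield
  push Not at hfield
  obtain ⟨Z, hZn, hZ, hnot⟩ := hfield
  haveI := hZn
  obtain ⟨ι, _, _, W, hW, h2⟩ := (isField_or_decomp hBirr Z hZ).resolve_left hnot
  obtain ⟨i₀⟩ : Nonempty ι := Fintype.card_pos_iff.1 (by omega)
  have hcard := card_eq_pow hBirr hW i₀
  obtain ⟨d, -, hd⟩ := (Nat.dvd_prime_pow Nat.prime_two).1
    (hV ▸ AddSubgroup.card_addSubgroup_dvd_card (W i₀))
  rw [hV, hd, ← pow_mul] at hcard
  have hj' : j = d * Fintype.card ι := Nat.pow_right_injective (le_refl 2) hcard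
  have hd0 : 0 < d := Nat.pos_of_ne_zero fun h => hW.ne_bot i₀ (by
    rw [h, pow_zero] at hd
    exact AddSubgroup.card_eq_one.1 hd)
  obtain ⟨f, hf⟩ := exists_injective_blocks hW
  have hK : Nat.card (MulAction.toPermHom (MulAction.toPermHom A V).range ι).ker ≤ ((2 ^ d - 1).factorial) ^ Fintype.card ι := by
    refine (Nat.card_le_card_of_injective f hf).trans ?_
    rw [Nat.card_pi, ← Finset.card_univ, ← Finset.prod_const]
    refine Finset.prod_le_prod' fun i _ => ?_
    -- permutations fixing zero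
    haveI := Fintype.ofFinite (W i)
    have hfix : ∀ (b : blockGroup hW i) (x : W i), (b : Equiv.Perm (W i)) x ≠ 0 ↔ x ≠ 0 := by
      rintro ⟨_, g, rfl⟩ x
      letI := subAction (W i) (block_inv hW i)
      exact not_congr (smul_eq_zero_iff_eq g)
    refine (Nat.card_le_card_of_injective
      (fun b : blockGroup hW i => (b : Equiv.Perm (W i)).subtypePerm (p := fun x => x ≠ 0) (hfix b)) fun b c hbc => ?_).trans ?_
    · refine Subtype.ext (Equiv.ext fun x => ?_)
      by_cases hx : x = 0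
      · obtain ⟨_, g, rfl⟩ := b
        obtain ⟨_, g', rfl⟩ := c
        letI := subAction (W i) (block_inv hW i)
        rw [hx]
        show g • (0 : W i) = g' • (0 : W i)
        rw [smul_zero, smul_zero]
      · exact congrArg Subtype.val (Equiv.congr_fun hbc ⟨x, hx⟩)
    · rw [Nat.card_eq_fintype_card, Fintype.card_perm, Fintype.card_subtype_compl,
        Fintype.card_subtype_eq, ← Nat.card_eq_fintype_card, card_block_eq hBirr hW i i₀, hd]
  have hS : Nat.card (MulAction.toPermHom (MulAction.toPermHom A V).range ι).range ≤ (Fintype.card ι).factorial := by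
    rw [← Fintype.card_perm, ← Nat.card_eq_fintype_card]
    exact Subgroup.card_le_card_group _
  rw [← (MulAction.toPermHom (MulAction.toPermHom A V).range ι).ker.index_mul_card, Subgroup.index_ker]
  refine (Nat.mul_le_mul hS hK).trans ?_
  have : Fintype.card ι ≤ 4 := le_trans (by rw [hj']; exact Nat.le_mul_of_pos_left _ hd0) hj
  have : d ≤ 2 := by nlinarith
  subst hj'
  interval_cases d <;> interval_cases hc : Fintype.card ι <;> first | omega | decide

/-- An abelian group of order 36. -/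
theorem card_aut_le_coprime {W : Type u} [CommGroup W] [Finite W] (hW : Nat.card W = 36)
    (H : Subgroup (MulAut W)) : Nat.card H ≤ 6 * 336 := by
  classical
  -- the two Sylow subgroups
  obtain ⟨P₂, P₃, h2, h3⟩ : ∃ P₂ P₃ : Subgroup W, (∀ x, x ∈ P₂ ↔ x ^ 4 = 1) ∧ (∀ x, x ∈ P₃ ↔ x ^ 9 = 1) :=
    ⟨(powMonoidHom 4).ker, (powMonoidHom 9).ker, fun x => Iff.rfl, fun x => Iff.rfl⟩
  have hsmall : ∀ (P : Subgroup W) (r : ℕ), r.Prime → (∀ x ∈ P, x ^ (r ^ 2) = 1) → r ∣ 36 →
      Nat.card P ∣ r ^ 2 := by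
    intro P r hr hP hr36
    haveI := Fact.mk hr
    obtain ⟨i, hi⟩ := (IsPGroup.iff_card (p := r)).1 (fun x : P => ⟨2, Subtype.ext (hP x x.2)⟩)
    rw [hi]
    refine Nat.pow_dvd_pow r ?_
    by_contra h
    have h1 : r ^ 3 ∣ 36 := hW ▸ (Nat.pow_dvd_pow r (show 3 ≤ i by omega)).trans
      (hi ▸ Subgroup.card_subgroup_dvd_card P)
    have h2 := Nat.le_of_dvd (by norm_num) h1
    have h3 : r < 4 := by
      by_contra h4
      have := Nat.pow_le_pow_left (Nat.not_lt.1 h4) 3
      omega
    have := hr.two_le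
    interval_cases r <;> norm_num at h1
  have hP2 := hsmall P₂ 2 Nat.prime_two (fun x hx => (h2 x).1 hx) (by norm_num)
  have hP3 := hsmall P₃ 3 Nat.prime_three (fun x hx => (h3 x).1 hx) (by norm_num)
  have hres : ∀ (P : Subgroup W) (e : ℕ), (∀ x, x ∈ P ↔ x ^ e = 1) →
      ∃ φ : H →* MulAut P, ∀ (g : H) (x : P), ((φ g x : P) : W) = (g : MulAut W) x := by
    intro P e hP
    have hmem : ∀ (g : MulAut W) (x : P), g (x : W) ∈ P := fun g x => (hP _).2 (by
      rw [← map_pow, (hP _).1 x.2, map_one])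
    refine ⟨{
      toFun := fun g =>
        { toFun := fun x => ⟨(g : MulAut W) x, hmem _ x⟩
          invFun := fun x => ⟨(g : MulAut W).symm x, hmem (g : MulAut W).symm x⟩
          left_inv := fun x => Subtype.ext ((g : MulAut W).symm_apply_apply x)
          right_inv := fun x => Subtype.ext ((g : MulAut W).apply_symm_apply x)
          map_mul' := fun x y => Subtype.ext (map_mul (g : MulAut W) (x : W) y) }
      map_one' := MulEquiv.ext fun x => rfl
      map_mul' := fun g g' => MulEquiv.ext fun x => rfl }, fun g x => rfl⟩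
  obtain ⟨φ₂, hφ₂⟩ := hres P₂ 4 h2
  obtain ⟨φ₃, hφ₃⟩ := hres P₃ 9 h3
  obtain ⟨l₂, hl₂, hle₂⟩ := card_le_descFactorial φ₂.range.subtype Subtype.val_injective
  obtain ⟨l₃, hl₃, hle₃⟩ := card_le_descFactorial φ₃.range.subtype Subtype.val_injective
  have hc2 : Nat.card P₂ ≤ 4 := Nat.le_of_dvd (by norm_num) hP2
  have hc3 : Nat.card P₃ ≤ 9 := Nat.le_of_dvd (by norm_num) hP3
  have hb2 : Nat.card φ₂.range ≤ 6 := hle₂.trans (by
    have : l₂ ≤ 2 := by
      by_contra h
      have := Nat.pow_le_pow_right (show 0 < 2 by norm_num) (show 3 ≤ l₂ by omega)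
      omega
    interval_cases hq : Nat.card P₂ <;> interval_cases l₂ <;> decide)
  have hb3 : Nat.card φ₃.range ≤ 336 := hle₃.trans (by
    have : l₃ ≤ 3 := by
      by_contra h
      have := Nat.pow_le_pow_right (show 0 < 2 by norm_num) (show 4 ≤ l₃ by omega)
      omega
    interval_cases hq : Nat.card P₃ <;> interval_cases l₃ <;> decide)
  refine le_trans ?_ (Nat.mul_le_mul hb2 hb3)
  rw [← Nat.card_prod]
  refine Nat.card_le_card_of_injective (fun g => (φ₂.rangeRestrict g, φ₃.rangeRestrict g)) fun g g' h => ?_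
  refine Subtype.ext (MulEquiv.ext fun x => ?_)
  have h36 : x ^ 36 = 1 := by rw [← hW]; exact pow_card_eq_one'
  have hx2 : x ^ 9 ∈ P₂ := (h2 _).2 (by rw [← pow_mul, h36])
  have hx3 : x ^ 4 ∈ P₃ := (h3 _).2 (by rw [← pow_mul, h36])
  have e2 : (g : MulAut W) (x ^ 9) = (g' : MulAut W) (x ^ 9) := by
    have := congrArg Prod.fst h
    rw [← hφ₂ g ⟨_, hx2⟩, ← hφ₂ g' ⟨_, hx2⟩]
    exact congrArg Subtype.val (DFunLike.congr_fun (congrArg Subtype.val this) ⟨_, hx2⟩)
  have e3 : (g : MulAut W) (x ^ 4) = (g' : MulAut W) (x ^ 4) := by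
    have := congrArg Prod.snd h
    rw [← hφ₃ g ⟨_, hx3⟩, ← hφ₃ g' ⟨_, hx3⟩]
    exact congrArg Subtype.val (DFunLike.congr_fun (congrArg Subtype.val this) ⟨_, hx3⟩)
  have hx : x = x ^ 9 * ((x ^ 4) ^ 2)⁻¹ := by
    rw [← pow_mul, eq_mul_inv_iff_mul_eq, ← pow_succ']
  rw [hx, map_mul, map_mul, map_inv, map_inv, map_pow _ (x ^ 4), map_pow _ (x ^ 4), e2, e3]

end Cfsg.Agent.SolvClassBound
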